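import Cfsg.Agent.Lib.G2Square.Cells

/-!
Every nontrivial element of G₂ is a product of two conjugates of one elliptic semisimple element of the Levi
subgroup GL(2).
-/

set_option autoImplicit false
set_option linter.unusedSectionVars false

namespace CfsgLib.G2Square

open Cfsg.Lie CfsgLib.Chev CfsgLib.ChevField CfsgLib.G2Invol CfsgLib.ChevSL2 CfsgLib.SteinbergTwo
open Matrix

variable {F : Type*} [Field F]

/-- the parabolic subgroup -/
noncomputable def PP (F : Type*) [Field F] : Subgroup (GL chevG2.Idx F) := (lev (F := F)).range ⊔ Up F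

theorem range_le_normalizer :
    (lev (F := F)).range ≤ Subgroup.normalizer (Up F : Set (GL chevG2.Idx F)) := by
  rintro _ ⟨M, rfl⟩; exact (lev_normalizes M).1

theorem mem_PP {g : GL chevG2.Idx F} : g ∈ PP F ↔ ∃ K, ∃ b ∈ Up F, g = lev K * b := by
  rw [PP, ← SetLike.mem_coe, Subgroup.coe_mul_of_left_le_normalizer_right _ _ range_le_normalizer, Set.mem_mul]
  constructor
  · rintro ⟨_, ⟨K, rfl⟩, b, hb, rfl⟩; exact ⟨K, b, hb, rfl⟩
  · rintro ⟨K, b, hb, rfl⟩; exact ⟨_, ⟨K, rfl⟩, b, hb, rfl⟩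

theorem torus_range (χ : Fin chevG2.rank → Fˣ) :
    torus chevG2 G2.tabs F χ ∈ (lev (F := F)).range := by
  refine ⟨diag2 (χ ia ^ 2 * χ ib) (χ ia * χ ib), ?_⟩
  rw [lev_diag, tor]
  congr 1
  rw [chr_ext (χ := χ), chr_ia, chr_ib]
  congr 1
  · apply Units.ext; push_cast; field_simp
  · apply Units.ext; push_cast; field_simp

theorem phi7_range_lev (A : SpecialLinearGroup (Fin 2) F) : phi7 A ∈ (lev (F := F)).range :=
  ⟨_, lev_toGL A⟩

theorem elX7_range (t : F) : elX chevG2 F 7 t ∈ (lev (F := F)).range := ⟨_, lev_upper t⟩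

theorem pos_root_cases : ∀ r : Fin chevG2.nroots, 6 ≤ r.val → r.val = 7 ∨ 0 < lv r.val := by
  unfold lv
  decide +kernel

theorem borel_le : chevG2.borelSubgroup F ≤ PP F := by
  rw [ChevalleyDatum.borelSubgroup, posUnipotent_eq hcG]
  refine sup_le ?_ (fun h hh => ?_)
  · rw [uGen_le_iff]
    intro r hr hp t
    rcases pos_root_cases ⟨r, hr⟩ hp with h | h
    · obtain rfl : r = 7 := h
      exact Subgroup.mem_sup_left (elX7_range t)
    · exact Subgroup.mem_sup_right (elX_mem_uGen hr (P := Upos) h t)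
  · obtain ⟨c, rfl⟩ := (mem_diagonal hcG).1 hh
    exact Subgroup.mem_sup_left (torus_range _)

theorem parabolic_le : chevG2.parabolicSubgroup F {0} ≤ PP F := by
  refine sup_le borel_le ((Subgroup.closure_le _).2 ?_)
  rintro g ⟨j, hj, -, hg⟩
  obtain rfl : j = 0 := hj
  have h7 : chevG2.simple 0 = 7 := by decide +kernel
  rw [h7] at hg
  have e : g = phi7 jj := by
    ext1
    rw [hom_jj hcG n7 phi7 phi7_img, coe_elN hcG n7, hg]
  rw [e]
  exact Subgroup.mem_sup_left (phi7_range_lev _)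

theorem top_pairs : ∀ r : Fin chevG2.nroots, 0 < lv r.val →
    r.val = 11 ∨ ∃ s : Fin chevG2.nroots, rv chevG2 G2.tabs r.val + rv chevG2 G2.tabs s.val = rv chevG2 G2.tabs 11 := by
  unfold lv
  decide +kernel

theorem sum_top : ∀ r s : Fin chevG2.nroots,
    rv chevG2 G2.tabs r.val + rv chevG2 G2.tabs s.val = rv chevG2 G2.tabs 11 → 6 ≤ r.val := by
  decide +kernel

theorem word_fix {L : List (Fin chevG2.rank)} (h : sigs chevG2 G2.tabs L 11 = 11) :
    nProd chevG2 F L ∈ PP F := by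
  refine parabolic_le (nProd_mem_parabolic hcG _ L rfl fun r hr hout => ?_)
  obtain ⟨hp, j, hj, hne⟩ := (outRoot_iff hcG hr).1 hout
  have hjb : j = ib := (fin_rank j).resolve_left fun e => hj (by rw [e]; rfl)
  have hlv : 0 < lv r := by
    have h1 : 0 ≤ rv chevG2 G2.tabs r j := rv_nonneg hcG hr hp j
    rw [hjb] at h1 hne
    exact lt_of_le_of_ne h1 (Ne.symm hne)
  rcases top_pairs ⟨r, hr⟩ hlv with e | ⟨s, e⟩
  · obtain rfl : r = 11 := e
    rw [h]; decide
  · have e' := congrArg (refls chevG2 L) e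
    rw [refls_add, ← rv_sigs hcG L hr, ← rv_sigs hcG L s.2, ← rv_sigs hcG L n11, h] at e'
    exact sum_top ⟨_, sigs_lt hcG L hr⟩ ⟨_, sigs_lt hcG L s.2⟩ e'

/-- words moving the highest root to the same root differ by the parabolic subgroup -/
theorem word_coset {L N : List (Fin chevG2.rank)}
    (h : sigs chevG2 G2.tabs L 11 = sigs chevG2 G2.tabs N 11) :
    ∃ q ∈ PP F, nProd chevG2 F L = nProd chevG2 F N * q := by
  refine ⟨(nProd chevG2 F N)⁻¹ * nProd chevG2 F L, ?_, by group⟩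
  obtain ⟨k, hk, e⟩ := nProd_inv hcG (F := F) N
  rw [e, mul_assoc, ← nProd_append]
  refine mul_mem (borel_le (diagonal_le_borel hcG hk)) (word_fix ?_)
  rw [sigs_append, h, sigs_reverse hcG N n11]

theorem orbit_step : ∀ i : Fin chevG2.rank, ∀ r ∈ [0, 1, 5, 6, 10, 11],
    sig chevG2 G2.tabs i r ∈ [0, 1, 5, 6, 10, 11] := by decide +kernel

theorem orbit_top (L : List (Fin chevG2.rank)) : sigs chevG2 G2.tabs L 11 ∈ [0, 1, 5, 6, 10, 11] := by
  induction L with
  | nil => simp [sigs]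
  | cons i L ih => rw [sigs_cons]; exact orbit_step i _ ih

theorem word_vals : sigs chevG2 G2.tabs [ib] 11 = 10 ∧ sigs chevG2 G2.tabs [ia, ib] 11 = 6 ∧
    sigs chevG2 G2.tabs [ib, ia, ib] 11 = 5 ∧ sigs chevG2 G2.tabs [ia, ib, ia, ib] 11 = 1 := by decide +kernel

/-- every element outside the parabolic subgroup lies in one of three double cosets -/
theorem cases_not_mem {g : GL chevG2.Idx F} (hg : g ∈ chevG2.group F) (hP : g ∉ PP F) :
    ∃ p ∈ PP F, ∃ q ∈ PP F, ∃ n, (n = n1 F ∨ n = n2 F ∨ n = n3 F) ∧ g = p * n * q ∧ p ∈ chevG2.group F := by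
  obtain ⟨u, hu, h, hh, L, v, hv, rfl⟩ := Chev.exists_bruhat hcG hcommG hg
  have huP := borel_le (pos_le_borel hcG hu)
  have hhP := borel_le (diagonal_le_borel hcG hh)
  have hvP := borel_le (pos_le_borel hcG (uInv_le_pos hcG L hv))
  have huG := pos_le_group hcG hu
  have hhG := diagonal_le_group hcG hh
  have hna : nProd chevG2 F [ia] ∈ PP F ∧ nProd chevG2 F [ia] ∈ chevG2.group F := by
    rw [nProd_cons, nProd_nil, mul_one]
    exact ⟨parabolic_le (elN_mem_parabolic hcG (J := {0}) (i := ia) rfl),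
      elN_mem_group hcG (simple_lt hcG ia.2) 1⟩
  rcases (by simpa using orbit_top L : sigs chevG2 G2.tabs L 11 = 0 ∨ sigs chevG2 G2.tabs L 11 = 1 ∨
      sigs chevG2 G2.tabs L 11 = 5 ∨ sigs chevG2 G2.tabs L 11 = 6 ∨ sigs chevG2 G2.tabs L 11 = 10 ∨
      sigs chevG2 G2.tabs L 11 = 11) with e | e | e | e | e | e
  · have hm := elN_mem_monomial hcG (F := F) n11
    obtain ⟨k, hk, N, hN⟩ := monomial_cases hcG hm
    have hN0 : sigs chevG2 G2.tabs N 11 = 0 := by
      have h1 := elN_conj_elX_self hcG (F := F) n11 1 1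
      rw [Units.val_one, neg11, hN] at h1
      obtain ⟨c, -, hc⟩ := nProd_conj_elX hcG (F := F) N n11
      obtain ⟨c', hc'⟩ := diagonal_conj_elX hcG hk (sigs_lt hcG N n11)
      rw [show k * nProd chevG2 F N * elX chevG2 F 11 1 * (k * nProd chevG2 F N)⁻¹ =
        k * (nProd chevG2 F N * elX chevG2 F 11 1 * (nProd chevG2 F N)⁻¹) * k⁻¹ by group, hc, hc'] at h1
      exact elX_root_unique hcG (sigs_lt hcG N n11) (by decide) (by simp) h1
    obtain ⟨q, hq, hL⟩ := word_coset (F := F) (e.trans hN0.symm)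
    refine ⟨u * h * k⁻¹, mul_mem (mul_mem huP hhP) (inv_mem (borel_le (diagonal_le_borel hcG hk))), q * v,
      mul_mem hq hvP, n3 F, Or.inr (Or.inr rfl), ?_, mul_mem (mul_mem huG hhG) (inv_mem (diagonal_le_group hcG hk))⟩
    rw [hL, n3, hN]; group
  · obtain ⟨q, hq, hL⟩ := word_coset (F := F) (e.trans word_vals.2.2.2.symm)
    refine ⟨u * h * nProd chevG2 F [ia], mul_mem (mul_mem huP hhP) hna.1, q * v, mul_mem hq hvP, n2 F,
      Or.inr (Or.inl rfl), ?_, mul_mem (mul_mem huG hhG) hna.2⟩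
    rw [hL, n2, show ([ia, ib, ia, ib] : List (Fin chevG2.rank)) = [ia] ++ [ib, ia, ib] from rfl, nProd_append]; group
  · obtain ⟨q, hq, hL⟩ := word_coset (F := F) (e.trans word_vals.2.2.1.symm)
    refine ⟨u * h, mul_mem huP hhP, q * v, mul_mem hq hvP, n2 F, Or.inr (Or.inl rfl), ?_, mul_mem huG hhG⟩
    rw [hL, n2]; group
  · obtain ⟨q, hq, hL⟩ := word_coset (F := F) (e.trans word_vals.2.1.symm)
    refine ⟨u * h * nProd chevG2 F [ia], mul_mem (mul_mem huP hhP) hna.1, q * v, mul_mem hq hvP, n1 F,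
      Or.inl rfl, ?_, mul_mem (mul_mem huG hhG) hna.2⟩
    rw [hL, n1, show ([ia, ib] : List (Fin chevG2.rank)) = [ia] ++ [ib] from rfl, nProd_append]; group
  · obtain ⟨q, hq, hL⟩ := word_coset (F := F) (e.trans word_vals.1.symm)
    refine ⟨u * h, mul_mem huP hhP, q * v, mul_mem hq hvP, n1 F, Or.inl rfl, ?_, mul_mem huG hhG⟩
    rw [hL, n1]; group
  · exact absurd (mul_mem (mul_mem huP (mul_mem hhP (word_fix e))) hvP) hP

/-- entries do not lower a functional -/
def NonLow (f : (Fin chevG2.rank → ℤ) → ℤ) (M : GL chevG2.Idx F) : Prop :=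
  ∀ x y, (M : Matrix chevG2.Idx chevG2.Idx F) x y ≠ 0 →
    f (wI chevG2 G2.tabs y) ≤ f (wI chevG2 G2.tabs x)

theorem NonLow.mul {f : (Fin chevG2.rank → ℤ) → ℤ} {M N : GL chevG2.Idx F} (hM : NonLow f M) (hN : NonLow f N) :
    NonLow f (M * N) := by
  intro x y h
  rw [Units.val_mul, Matrix.mul_apply] at h
  obtain ⟨z, -, hz⟩ := Finset.exists_ne_zero_of_sum_ne_zero h
  exact (hN z y (right_ne_zero_of_mul hz)).trans (hM x z (left_ne_zero_of_mul hz))

theorem nonLow_raises {f : (Fin chevG2.rank → ℤ) → ℤ} {d : ℤ} (hd : 0 ≤ d) {M : GL chevG2.Idx F}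
    (h : Raises chevG2 G2.tabs f d (M : Matrix chevG2.Idx chevG2.Idx F)) : NonLow f M := by
  intro x y hxy
  by_cases e : x = y
  · rw [e]
  · have := h x y (by rwa [Matrix.one_apply_ne e]); omega

theorem lev_nonLow {f : (Fin chevG2.rank → ℤ) → ℤ} (hf : ∀ v w, f (v + w) = f v + f w)
    (hf' : ∀ (c : ℤ) v, f (c • v) = c * f v) (h7 : f (rv chevG2 G2.tabs 7) = 0) (K : GL (Fin 2) F) :
    NonLow f (lev K) := by
  rw [lev_apply, dtor, tor]
  refine NonLow.mul (fun x y h => ?_) (nonLow_raises (d := 0) le_rfl ?_)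
  · by_cases e : x = y
    · rw [e]
    · exact absurd (torus_diag_entry _ e) h
  · have hmem : phi7 (slPart K) ∈ uGen chevG2 F (fun r => r = 7 ∨ r = 4) := by
      have hle : (phi7 (F := F)).range ≤ uGen chevG2 F (fun r => r = 7 ∨ r = 4) := by
        rw [phi7_range, rootSubgroup_eq hcG n7, rootSubgroup_eq hcG (neg_lt hcG n7)]
        exact sup_le (uGen_mono fun r _ h => Or.inl h) (uGen_mono fun r _ h => Or.inr (by rw [h, neg7]))
      exact hle ⟨_, rfl⟩
    refine raises_uGen hcG hf hf' le_rfl (fun r hr h => ?_) hmem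
    rcases h with rfl | rfl
    · rw [h7]
    · have h4 : rv chevG2 G2.tabs 4 = (-1 : ℤ) • rv chevG2 G2.tabs 7 := by
        rw [← neg7, rv_neg hcG n7]; simp
      rw [h4, hf', h7, mul_zero]

theorem lv_ib (c : ℤ) (v w : Fin chevG2.rank → ℤ) :
    (v + w) ib = v ib + w ib ∧ (c • v) ib = c * v ib := ⟨rfl, rfl⟩

theorem um_inf_PP {g : GL chevG2.Idx F} (hm : g ∈ Um F) (hp : g ∈ PP F) : g = 1 := by
  obtain ⟨K, b, hb, rfl⟩ := mem_PP.1 hp
  have hR := raises_uGen hcG (f := fun v => -v ib) (fun v w => by simp; ring) (fun c v => by simp) (d := 1)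
    zero_le_one (fun r _ h => by have : lv r < 0 := h; simp only [lv] at this; omega) hm
  have hQ : NonLow (fun v => v ib) (lev K * b) :=
    (lev_nonLow (f := fun v => v ib) (fun _ _ => rfl) (fun _ _ => rfl) rv7.2 K).mul
      (nonLow_raises (d := 1) zero_le_one (raises_uGen hcG (f := fun v => v ib) (fun _ _ => rfl) (fun _ _ => rfl)
        zero_le_one (fun r _ h => by have : 0 < lv r := h; simp only [lv] at this; omega) hb))
  ext x y
  by_contra hne
  have h1 := hR x y hne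
  simp only at h1
  by_cases h0 : (lev K * b : GL chevG2.Idx F).val x y = 0
  · by_cases e : x = y
    · subst e; omega
    · exact hne (by rw [h0, Units.val_one, Matrix.one_apply_ne e])
  · have := hQ x y h0
    simp only at this
    omega

theorem up_inf_range {g : GL chevG2.Idx F} (hu : g ∈ Up F) (hl : g ∈ (lev (F := F)).range) : g = 1 := by
  obtain ⟨K, rfl⟩ := hl
  have hR := raises_uGen hcG (f := fun v => v ib) (fun _ _ => rfl) (fun _ _ => rfl) (d := 1)
    zero_le_one (fun r _ h => by have : 0 < lv r := h; simp only [lv] at this; omega) hu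
  have hQ : NonLow (fun v => -v ib) (lev K) :=
    lev_nonLow (f := fun v => -v ib) (fun v w => by simp; ring) (fun c v => by simp) (by simp [rv7.2]) K
  ext x y
  by_contra hne
  have h1 := hR x y hne
  simp only at h1
  by_cases h0 : (lev K).val x y = 0
  · by_cases e : x = y
    · subst e; omega
    · exact hne (by rw [h0, Units.val_one, Matrix.one_apply_ne e])
  · have := hQ x y h0
    simp only at this
    omega

theorem W0_vals : sigs chevG2 G2.tabs W0 7 = 4 ∧ sigs chevG2 G2.tabs W0 4 = 7 := by decide +kernel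

theorem W0_range {g : GL chevG2.Idx F} (hg : g ∈ (lev (F := F)).range) :
    nProd chevG2 F W0 * g * (nProd chevG2 F W0)⁻¹ ∈ (lev (F := F)).range := by
  set n := nProd chevG2 F W0
  obtain ⟨K, rfl⟩ := hg
  have hle : (phi7 (F := F)).range ≤ (lev (F := F)).range.comap (MulAut.conj n).toMonoidHom := by
    have hx : ∀ r, r = 7 ∨ r = 4 → ∀ t, elX chevG2 F r t ∈ (lev (F := F)).range.comap (MulAut.conj n).toMonoidHom := by
      intro r hr t
      rw [Subgroup.mem_comap]
      show n * elX chevG2 F r t * n⁻¹ ∈ _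
      obtain ⟨c, -, hc⟩ := nProd_conj_elX hcG (F := F) W0 (r := r) (by rcases hr with rfl | rfl <;> decide)
      rw [hc]
      have e4 : elX chevG2 F 4 ((c : F) * t) = phi7 (img F (false, (c : F) * t)) := by
        rw [phi7_img, rootPair, if_neg Bool.false_ne_true, neg7]
      rcases hr with rfl | rfl
      · rw [W0_vals.1, e4]; exact phi7_range_lev _
      · rw [W0_vals.2]; exact elX7_range _
    rw [phi7_range, rootSubgroup_eq hcG n7, rootSubgroup_eq hcG (neg_lt hcG n7)]
    refine sup_le ?_ ?_ <;> rw [uGen_le_iff] <;> intro r _ h t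
    · exact hx r (Or.inl h) t
    · exact hx r (Or.inr (by rw [h, neg7])) t
  have h1 := hle ⟨slPart K, rfl⟩
  rw [Subgroup.mem_comap] at h1
  rw [lev_apply, dtor, tor, show ∀ a b : GL chevG2.Idx F, n * (a * b) * n⁻¹ = (n * a * n⁻¹) * (n * b * n⁻¹) from
    fun a b => by group, nProd_conj_torus hcG]
  exact mul_mem (torus_range _) h1

theorem conj_same {r s : ℕ} (hr : r < chevG2.nroots) (hs : s < chevG2.nroots) (hne : r ≠ s)
    (h : chevG2.commTerms r s = [] ∧ s ≠ chevG2.neg r) (t u : F) :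
    elX chevG2 F r t * elX chevG2 F s u = elX chevG2 F s u * elX chevG2 F r t :=
  ChevCent.commute_elX hcG hcommG hr hs h.2 (by rw [h.1]; simp) t u

theorem comm_vals : (chevG2.commTerms 7 10 = [] ∧ 10 ≠ chevG2.neg 7) ∧
    (chevG2.commTerms 4 6 = [] ∧ 6 ≠ chevG2.neg 4) := by decide +kernel

/-- no nontrivial Levi element centralises the radical -/
theorem centralizer_up {K : GL (Fin 2) F} (h : ∀ u ∈ Up F, lev K * u = u * lev K) : lev K = 1 := by
  set A := slPart K with hA
  have key : ∀ (b : Bool) (r r' : ℕ), r < chevG2.nroots → r' < chevG2.nroots → r ≠ r' →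
      (∀ p u, rootPair chevG2 F 7 b p * elX chevG2 F r u = elX chevG2 F r u * rootPair chevG2 F 7 b p) →
      elX chevG2 F r 1 ∈ Up F → sig chevG2 G2.tabs ia r = r' →
      ∀ (s : F) (hs : s ≠ 0) (x y : F), A = img F (b, x) * ww s hs * img F (b, y) → False := by
    intro b r r' hr hr' hne hcr hup hw s hs x y eA
    have e := h _ hup
    have h7 : elN chevG2 F 7 s = torus chevG2 G2.tabs F (corChar chevG2 G2.tabs 7 (Units.mk0 s hs)) *
        elN chevG2 F 7 1 := by
      have := elN_mul_inv hcG (F := F) n7 (Units.mk0 s hs) 1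
      rw [div_one, Units.val_one] at this
      rw [← this, Units.val_mk0, inv_mul_cancel_right]
    have hu' := nOne_conj_elX hcG (F := F) ia (s := r) hr 1
    rw [simple_vals.1, hw] at hu'
    set τ := dtor (GeneralLinearGroup.det K) with hτdef
    set X := rootPair chevG2 F 7 b x
    set Y := rootPair chevG2 F 7 b y
    set θ := torus chevG2 G2.tabs F (corChar chevG2 G2.tabs 7 (Units.mk0 s hs))
    set w := elN chevG2 F 7 1
    have hlev : lev K = τ * (X * (θ * w) * Y) := by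
      rw [lev_apply, ← hA, eA, map_mul, map_mul, phi7_img, phi7_img, hom_wWord hcG n7 phi7 phi7_img, h7]
    set u' : F := (eta chevG2 G2.tabs ia r : F) * 1
    obtain ⟨c, hc⟩ : ∃ c, θ * elX chevG2 F r' u' * θ⁻¹ = elX chevG2 F r' c := ⟨_, torus_conj_elX hcG _ hr' _⟩
    obtain ⟨c', hc'⟩ : ∃ c', τ⁻¹ * elX chevG2 F r 1 * τ = elX chevG2 F r c' := by
      have h' := torus_conj_elX hcG ((chr (GeneralLinearGroup.det K) (GeneralLinearGroup.det K)⁻¹)⁻¹) hr (1 : F)
      rw [map_inv, inv_inv] at h'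
      exact ⟨_, h'⟩
    have e1 : elX chevG2 F r 1 = τ * (X * elX chevG2 F r' c * X⁻¹) * τ⁻¹ := by
      calc elX chevG2 F r 1 = lev K * elX chevG2 F r 1 * (lev K)⁻¹ := by rw [e, mul_inv_cancel_right]
        _ = τ * (X * (θ * (w * elX chevG2 F r 1 * w⁻¹) * θ⁻¹) * X⁻¹) * τ⁻¹ := by
          rw [hlev, show τ * (X * (θ * w) * Y) * elX chevG2 F r 1 =
            τ * (X * (θ * w) * (Y * elX chevG2 F r 1)) by group,
            show Y * elX chevG2 F r 1 = elX chevG2 F r 1 * Y from hcr y 1]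
          group
        _ = _ := by rw [hu', hc]
    have e2 : elX chevG2 F r' c = X⁻¹ * (τ⁻¹ * elX chevG2 F r 1 * τ) * X := by
      conv_rhs => rw [e1]
      group
    rw [hc', mul_assoc, ← hcr, inv_mul_cancel_left] at e2
    have hc0 : c ≠ 0 := by
      intro h0
      rw [h0, elX_zero hcG F hr'] at e1
      exact one_ne_zero ((elX_eq_one_iff hcG hr (1 : F)).1 (by rw [e1]; group))
    exact hne (elX_root_unique hcG hr' hr hc0 e2).symm
  have hdet : A 0 0 * A 1 1 - A 0 1 * A 1 0 = 1 := by rw [← det_fin_two]; exact A.2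
  have h10 : A 1 0 = 0 := by
    by_contra hc
    refine key true 10 6 (by decide) (by decide) (by decide)
      (fun p u => conj_same n7 (by decide) (by decide) comm_vals.1 p u) (mem_up (by simp) 1)
      (by decide +kernel) (-(A 1 0)⁻¹) (neg_ne_zero.2 (inv_ne_zero hc)) (A 0 0 / A 1 0) (A 1 1 / A 1 0) ?_
    ext i j
    fin_cases i <;> fin_cases j <;>
      simp [coe_img, coe_ww, Matrix.mul_apply, Fin.sum_univ_two] <;> field_simp
    linear_combination -hdet
  have h01 : A 0 1 = 0 := by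
    by_contra hc
    refine key false 6 10 (by decide) (by decide) (by decide)
      (fun p u => ?_) (mem_up (by simp) 1)
      (by decide +kernel) (A 0 1) hc (A 1 1 / A 0 1) (A 0 0 / A 0 1) ?_
    · rw [rootPair, if_neg Bool.false_ne_true, neg7]
      exact conj_same (by decide) (by decide) (by decide) comm_vals.2 p u
    ext i j
    fin_cases i <;> fin_cases j <;>
      simp [coe_img, coe_ww, Matrix.mul_apply, Fin.sum_univ_two] <;> field_simp
    linear_combination -hdet
  rw [h10, mul_zero, sub_zero] at hdet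
  set a := Units.mk0 (A 0 0) (left_ne_zero_of_mul (hdet ▸ one_ne_zero)) with ha
  have eA : A = dd a := by
    have hA0 : A 0 0 ≠ 0 := left_ne_zero_of_mul (hdet ▸ one_ne_zero)
    ext i j
    fin_cases i <;> fin_cases j <;> simp [coe_dd, h10, h01, ha]
    field_simp
    linear_combination hdet
  have eK : lev K = dtor (GeneralLinearGroup.det K) * phi7 (dd a) := by rw [lev_apply, ← hA, eA]
  rw [dtor, phi7_dd, tor_mul, tor] at eK
  set χ := chr (GeneralLinearGroup.det K * a ^ 2) ((GeneralLinearGroup.det K)⁻¹ * a ^ (-3 : ℤ))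
  have fix1 : ∀ r, r < chevG2.nroots → elX chevG2 F r 1 ∈ Up F → chi χ (rv chevG2 G2.tabs r) = 1 := by
    intro r hr hup
    have e := h _ hup
    rw [eK, torus_elX hcG χ hr] at e
    have e2 := mul_right_cancel e
    have e3 : elX chevG2 F r ((chi χ (rv chevG2 G2.tabs r) : F) * 1 - 1) = 1 := by
      rw [sub_eq_add_neg, ← elX_add hcG F hr, e2, elX_add hcG F hr, add_neg_cancel, elX_zero hcG F hr]
    have := (elX_eq_one_iff hcG hr _).1 e3
    rw [mul_one, sub_eq_zero] at this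
    exact Units.ext this
  have hb := fix1 6 (by decide) (mem_up (by simp) 1)
  have hab := fix1 8 (by decide) (mem_up (by simp) 1)
  rw [chi_rank, show rv chevG2 G2.tabs 6 ia = 0 by decide +kernel, show rv chevG2 G2.tabs 6 ib = 1 by decide +kernel,
    zpow_zero, one_mul, zpow_one] at hb
  rw [chi_rank, show rv chevG2 G2.tabs 8 ia = 1 by decide +kernel, show rv chevG2 G2.tabs 8 ib = 1 by decide +kernel,
    zpow_one, zpow_one, hb, mul_one] at hab
  have hχ : χ = 1 := by
    funext i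
    rcases fin_rank i with rfl | rfl
    · exact hab
    · exact hb
  rw [eK, hχ, map_one]

/-- some conjugate of a nontrivial element avoids the parabolic subgroup -/
theorem exists_conj_not_mem {g : GL chevG2.Idx F} (hne : g ≠ 1) :
    ∃ v ∈ chevG2.group F, v * g * v⁻¹ ∉ PP F := by
  by_contra hall
  push Not at hall
  set n := nProd chevG2 F W0
  have hnG : n ∈ chevG2.group F := monomial_le_group hcG (nProd_mem_monomial hcG W0)
  have hrange : ∀ v ∈ chevG2.group F, v * g * v⁻¹ ∈ (lev (F := F)).range := by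
    intro v hv
    obtain ⟨K, b, hb, e⟩ := mem_PP.1 (hall v hv)
    have h1 := hall (n * v) (mul_mem hnG hv)
    rw [show n * v * g * (n * v)⁻¹ = n * (v * g * v⁻¹) * n⁻¹ by group, e,
      show n * (lev K * b) * n⁻¹ = (n * lev K * n⁻¹) * (n * b * n⁻¹) by group] at h1
    have hl := W0_range (F := F) ⟨K, rfl⟩
    have h2 : n * b * n⁻¹ ∈ PP F := by
      have := mul_mem (inv_mem (Subgroup.mem_sup_left hl : _ ∈ PP F)) h1
      rwa [inv_mul_cancel_left] at this
    have h3 : n * b * n⁻¹ ∈ Um F := by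
      clear h1 h2 e
      induction hb using Subgroup.closure_induction with
      | mem x hx =>
        obtain ⟨r, t, hr, hP, rfl⟩ := hx
        obtain ⟨c, -, hc⟩ := nProd_conj_elX hcG (F := F) W0 hr
        rw [hc]
        obtain ⟨h1, -, -, h2⟩ := W0_spec ⟨r, hr⟩
        exact elX_mem_uGen (sigs_lt hcG W0 hr) (P := Uneg) (show lv _ < 0 by rw [h1]; exact h2 hP) _
      | one => simp
      | mul a b _ _ ha hb =>
        rw [show n * (a * b) * n⁻¹ = n * a * n⁻¹ * (n * b * n⁻¹) by group]; exact mul_mem ha hb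
      | inv a _ ha => rw [show n * a⁻¹ * n⁻¹ = (n * a * n⁻¹)⁻¹ by group]; exact inv_mem ha
    have hb1 : b = 1 := conj_eq_one_iff.1 (um_inf_PP h3 h2)
    rw [e, hb1, mul_one]
    exact ⟨K, rfl⟩
  obtain ⟨K, hK⟩ : g ∈ (lev (F := F)).range := by simpa using hrange 1 (one_mem _)
  refine hne (hK ▸ centralizer_up fun u hu => ?_)
  have huG : u ∈ chevG2.group F := by
    rw [group_eq hcG]; exact uGen_mono (fun _ _ _ => trivial) hu
  have h1 := hrange u huG
  rw [← hK] at h1
  have h2 : (lev K)⁻¹ * u * lev K * u⁻¹ ∈ Up F := by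
    have := lev_conj_up K⁻¹ hu
    rw [map_inv, inv_inv] at this
    exact mul_mem this (inv_mem hu)
  have h3 : (lev K)⁻¹ * u * lev K * u⁻¹ ∈ (lev (F := F)).range := by
    have := mul_mem (inv_mem (⟨K, rfl⟩ : lev K ∈ (lev (F := F)).range)) h1
    rwa [← mul_assoc, ← mul_assoc] at this
  have h4 := up_inf_range h2 h3
  rw [mul_inv_eq_one] at h4
  calc lev K * u = lev K * ((lev K)⁻¹ * u * lev K) := by rw [h4]
    _ = u * lev K := by group

theorem lev_mem_group (K : GL (Fin 2) F) : lev K ∈ chevG2.group F := by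
  rw [lev_apply]
  refine mul_mem (diagonal_le_group hcG (tor_mem _)) ?_
  have hle : (phi7 (F := F)).range ≤ chevG2.group F := by
    rw [phi7_range, rootSubgroup_eq hcG n7, rootSubgroup_eq hcG (neg_lt hcG n7), group_eq hcG]
    exact sup_le (uGen_mono fun _ _ _ => trivial) (uGen_mono fun _ _ _ => trivial)
  exact hle ⟨_, rfl⟩

theorem up_le_group : Up F ≤ chevG2.group F := by
  rw [group_eq hcG]; exact uGen_mono fun _ _ _ => trivial

theorem um_le_group : Um F ≤ chevG2.group F := by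
  rw [group_eq hcG]; exact uGen_mono fun _ _ _ => trivial

/-- elements of one elliptic class are conjugate -/
theorem cls_conj {t d : F} (hirr : ∀ r : F, r ^ 2 - t * r + d ≠ 0) {A B : GL (Fin 2) F}
    (hA : Cls t d (A : Matrix (Fin 2) (Fin 2) F)) (hB : Cls t d (B : Matrix (Fin 2) (Fin 2) F)) :
    ∃ P : GL (Fin 2) F, B = P * A * P⁻¹ := by
  have hne : ∀ M : Matrix (Fin 2) (Fin 2) F, Cls t d M → M 1 0 ≠ 0 := fun M hM h0 => by
    obtain ⟨h1, h2⟩ := hM
    rw [trace_fin_two] at h1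
    rw [det_fin_two, h0, mul_zero, sub_zero] at h2
    exact hirr (M 0 0) (by rw [← h1, ← h2]; ring)
  obtain ⟨P, hP⟩ := companion _ (hne _ hA)
  obtain ⟨Q, hQ⟩ := companion _ (hne _ hB)
  rw [hA.1, hA.2] at hP
  rw [hB.1, hB.2] at hQ
  set C : Matrix (Fin 2) (Fin 2) F := !![0, -d; 1, t]
  have hC : C = ((P⁻¹ : GL (Fin 2) F) : Matrix (Fin 2) (Fin 2) F) * A * (P : Matrix (Fin 2) (Fin 2) F) := by
    rw [hP]; simp [← mul_assoc]
  refine ⟨Q * P⁻¹, Units.ext ?_⟩
  rw [hQ, hC]
  simp [← mul_assoc]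

/-- Every nontrivial element of G₂ is a product of two conjugates of one semisimple element. -/
theorem main [Fintype F] (p : ℕ) [Fact p.Prime] [CharP F p] (h3 : 3 ≤ Fintype.card F) :
    ∃ x : ↥(chevG2.group F), ¬ p ∣ orderOf x ∧
      ∀ g : ↥(chevG2.group F), g ≠ 1 → ∃ u v : ↥(chevG2.group F), g = (u * x * u⁻¹) * (v * x * v⁻¹) := by
  classical
  obtain ⟨t, d, ht, hd, hd1, hirr⟩ := exists_params (K := F) h3
  let X : GL (Fin 2) F := GeneralLinearGroup.mkOfDetNeZero !![0, -d; 1, t] (by rw [det_fin_two_of]; simpa using hd)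
  have hX : Cls t d (X : Matrix (Fin 2) (Fin 2) F) := by
    show Cls t d !![0, -d; 1, t]
    exact ⟨by simp [trace_fin_two], by simp [det_fin_two]⟩
  refine ⟨⟨lev X, lev_mem_group X⟩, ?_, fun g hg => ?_⟩
  · obtain ⟨E, iE, iF, ι, σ, Q, lu, mu, hE, -, -, -, -, hQ⟩ := elliptic_diag ht hirr hX
    intro hdvd
    have hpow : (lev X) ^ (Fintype.card E - 1) = 1 := by
      refine glMap_injective ι ?_
      rw [map_pow, map_one, glMap_lev,
        show GeneralLinearGroup.map ι X = Q⁻¹ * diag2 lu mu * Q by rw [mul_assoc, ← hQ, inv_mul_cancel_left],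
        map_mul, map_mul, map_inv]
      have hu : ∀ a : Eˣ, a ^ (Fintype.card E - 1) = 1 := fun a => by
        rw [← Fintype.card_units]; exact pow_card_eq_one
      have htor : lev (diag2 lu mu) ^ (Fintype.card E - 1) = 1 := by
        rw [lev_diag, tor, ← map_pow, show chr (lu / mu) (mu ^ 2 / lu) ^ (Fintype.card E - 1) = 1 from funext fun i => by
          rw [Pi.pow_apply]; exact hu _, map_one]
      have hc : ∀ a b : GL chevG2.Idx E, a⁻¹ * b * a = MulAut.conj a⁻¹ b := fun a b => by simp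
      rw [hc, ← map_pow, htor, map_one]
    have h1 : p ∣ Fintype.card E - 1 := by
      refine hdvd.trans ?_
      rw [← Subgroup.orderOf_coe]
      exact orderOf_dvd_of_pow_eq_one hpow
    obtain ⟨k, -, hk⟩ := FiniteField.card F p
    have h2 : p ∣ Fintype.card E := by rw [hE, hk, ← pow_mul]; exact dvd_pow_self p (by simp)
    have h4 := Nat.dvd_sub h2 h1
    rw [show Fintype.card E - (Fintype.card E - 1) = 1 by have := Fintype.one_lt_card (α := E); omega] at h4
    exact (Fact.out : p.Prime).not_dvd_one h4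
  let C : Set (GL chevG2.Idx F) := {y | ∃ v ∈ chevG2.group F, y = v * lev X * v⁻¹}
  have hC : ∀ y ∈ C, ∀ v ∈ chevG2.group F, v * y * v⁻¹ ∈ C := by
    rintro _ ⟨w, hw, rfl⟩ v hv
    exact ⟨v * w, mul_mem hv hw, by group⟩
  have hclass : ∀ A : GL (Fin 2) F, Cls t d (A : Matrix (Fin 2) (Fin 2) F) → lev A ∈ C := fun A hA => by
    obtain ⟨P, rfl⟩ := cls_conj hirr hX hA
    exact ⟨lev P, lev_mem_group P, by rw [map_mul, map_mul, map_inv]⟩
  have shift : ∀ (S : Subgroup (GL chevG2.Idx F)), (S = Up F ∨ S = Um F) → ∀ A : GL (Fin 2) F,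
      Cls t d (A : Matrix (Fin 2) (Fin 2) F) → ∀ u ∈ S, u * lev A ∈ C := by
    intro S hS A hA u hu
    have hnorm : lev A ∈ Subgroup.normalizer (S : Set (GL chevG2.Idx F)) := by
      rcases hS with rfl | rfl
      exacts [(lev_normalizes A).1, (lev_normalizes A).2]
    have hSG : S ≤ chevG2.group F := by rcases hS with rfl | rfl; exacts [up_le_group, um_le_group]
    let f : S → S := fun v => ⟨(v : GL chevG2.Idx F) * lev A * (v : GL chevG2.Idx F)⁻¹ * (lev A)⁻¹, by
      have h := (Subgroup.mem_normalizer_iff.1 hnorm _).1 (inv_mem v.2)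
      have := mul_mem v.2 h
      simpa [mul_assoc] using this⟩
    have hf : Function.Injective f := by
      intro a b e
      have e' : (a : GL chevG2.Idx F) * lev A * (a : GL chevG2.Idx F)⁻¹ = b * lev A * (b : GL chevG2.Idx F)⁻¹ :=
        mul_right_cancel (congrArg Subtype.val e)
      have hcom : lev A * ((b : GL chevG2.Idx F)⁻¹ * a) = (b : GL chevG2.Idx F)⁻¹ * a * lev A := by
        calc lev A * ((b : GL chevG2.Idx F)⁻¹ * a)
            = (b : GL chevG2.Idx F)⁻¹ * (b * lev A * (b : GL chevG2.Idx F)⁻¹) * a := by group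
          _ = _ := by rw [← e']; group
      have hm : (b : GL chevG2.Idx F)⁻¹ * a ∈ S := mul_mem (inv_mem b.2) a.2
      have := regular ht hd1 hirr hA (by rcases hS with rfl | rfl; exacts [Or.inl hm, Or.inr hm]) hcom
      exact Subtype.ext (inv_mul_eq_one.1 this).symm
    obtain ⟨v, hv⟩ := (Finite.injective_iff_surjective.1 hf) ⟨u, hu⟩
    have e : (v : GL chevG2.Idx F) * lev A * (v : GL chevG2.Idx F)⁻¹ * (lev A)⁻¹ = u := congrArg Subtype.val hv
    rw [show u * lev A = (v : GL chevG2.Idx F) * lev A * (v : GL chevG2.Idx F)⁻¹ by rw [← e]; group]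
    exact hC _ (hclass A hA) _ (hSG v.2)
  have finish : ∀ n ∈ chevG2.group F, ∀ (K : GL (Fin 2) F), Hits n K → ∀ (L : GL (Fin 2) F),
      Good d ((K * L : GL (Fin 2) F) : Matrix (Fin 2) (Fin 2) F) →
      ((K * L : GL (Fin 2) F) : Matrix (Fin 2) (Fin 2) F).det = d ^ 2 → ∀ b₀ ∈ Up F,
      ∃ v ∈ chevG2.group F, ∃ y ∈ C, ∃ z ∈ C, v * (n * (lev L * b₀)) * v⁻¹ = y * z := by
    intro n _ K hK L hgood hdet b₀ hb₀
    obtain ⟨w, hw, a, ha, b, hb, e⟩ := hK
    obtain ⟨A, B, hA, hB, hAB⟩ := cover ht hd hgood hdet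
    set Ag : GL (Fin 2) F := GeneralLinearGroup.mkOfDetNeZero A (by rw [hA.2]; exact hd)
    set Bg : GL (Fin 2) F := GeneralLinearGroup.mkOfDetNeZero B (by rw [hB.2]; exact hd)
    have hKL : K * L = Ag * Bg := Units.ext hAB.symm
    have hb' : lev Bg * ((lev L)⁻¹ * b * lev L * b₀ * w⁻¹) * (lev Bg)⁻¹ ∈ Up F := by
      refine lev_conj_up Bg (mul_mem (mul_mem ?_ hb₀) (inv_mem hw))
      have := lev_conj_up L⁻¹ hb
      rwa [map_inv, inv_inv] at this
    refine ⟨w, up_le_group hw, a * lev Ag, shift _ (Or.inr rfl) _ hA _ ha,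
      (lev Bg * ((lev L)⁻¹ * b * lev L * b₀ * w⁻¹) * (lev Bg)⁻¹) * lev Bg,
      shift _ (Or.inl rfl) _ hB _ hb', ?_⟩
    calc w * (n * (lev L * b₀)) * w⁻¹ = w * n * lev L * b₀ * w⁻¹ := by group
      _ = a * (lev K * lev L) * ((lev L)⁻¹ * b * lev L * b₀ * w⁻¹) := by rw [e]; group
      _ = _ := by rw [← map_mul, hKL, map_mul]; group
  have hgne : (g : GL chevG2.Idx F) ≠ 1 := fun e => hg (Subtype.ext e)
  obtain ⟨v₀, hv₀, hout⟩ := exists_conj_not_mem hgne
  obtain ⟨p₀, hp₀, q₀, hq₀, n, hn, e, hp₀G⟩ := cases_not_mem (mul_mem (mul_mem hv₀ g.2) (inv_mem hv₀)) hout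
  obtain ⟨L, b₀, hb₀, hL⟩ := mem_PP.1 (mul_mem hq₀ hp₀)
  have hnG : n ∈ chevG2.group F := by
    rcases hn with rfl | rfl | rfl
    · exact monomial_le_group hcG (nProd_mem_monomial hcG _)
    · exact monomial_le_group hcG (nProd_mem_monomial hcG _)
    · exact elN_mem_group hcG n11 1
  obtain ⟨v₁, hv₁, y, hy, z, hz, hyz⟩ : ∃ v ∈ chevG2.group F, ∃ y ∈ C, ∃ z ∈ C,
      v * (n * (lev L * b₀)) * v⁻¹ = y * z := by
    set Lm := (L : Matrix (Fin 2) (Fin 2) F)
    have hLdet : Lm.det ≠ 0 := (GeneralLinearGroup.det L).ne_zero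
    set Ev : Fˣ := Units.mk0 (d ^ 2 / Lm.det) (div_ne_zero (pow_ne_zero _ hd) hLdet)
    have hup : ∀ K₀ : GL (Fin 2) F, (K₀ : Matrix (Fin 2) (Fin 2) F).det = Ev → Hits n K₀ →
        (∀ σ, n * elX chevG2 F 7 σ * n⁻¹ ∈ Up F) →
        ∃ v ∈ chevG2.group F, ∃ y ∈ C, ∃ z ∈ C, v * (n * (lev L * b₀)) * v⁻¹ = y * z := by
      intro K₀ hK₀ hhit hx
      have hN : (Lm * (K₀ : Matrix (Fin 2) (Fin 2) F)).det = d ^ 2 := by
        rw [det_mul, hK₀, Units.val_mk0, mul_div_cancel₀ _ hLdet]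
      obtain ⟨σ, hσ⟩ := upper_good hN hd
      refine finish n hnG _ (hhit.upper σ (hx σ)) L ?_ ?_ b₀ hb₀
      · have := hσ.conj K₀
        convert this using 1
        simp only [Units.val_mul, coe_upper, Lm, mul_assoc, Units.mul_inv, mul_one]
      · rw [Units.val_mul, Units.val_mul, det_mul, det_mul, coe_upper, det_fin_two_of, hK₀, Units.val_mk0]
        simp [Lm, div_mul_cancel₀ _ hLdet]
    rcases hn with rfl | rfl | rfl
    · exact hup _ (by simp [coe_diag2, det_fin_two]) (hits_n1 Ev) fun σ => n_upper lv_n1 σ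
    · refine hup _ ?_ (hits_n2 Ev) fun σ => n_upper lv_n2 σ
      rw [Units.val_mul, det_mul, coe_toGL',
        show Matrix.det ((jj : SpecialLinearGroup (Fin 2) F) : Matrix (Fin 2) (Fin 2) F) = 1 from jj.2, mul_one, coe_diag2,
        det_fin_two_of]
      simp
    · obtain ⟨P, z, m, hz, hm, hdet, hgood⟩ := split_good h3 hd hLdet
      refine finish _ hnG _ (hits_n3 P (Units.mk0 z hz) (Units.mk0 m hm)) L ?_ ?_ b₀ hb₀
      · simpa [Lm, coe_diag2] using hgood
      · simp only [Units.val_mul, det_mul, coe_diag2, Units.val_mk0]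
        rw [show ∀ a b c e : F, a * b * c * e = b * (a * c) * e from fun a b c e => by ring]
        rw [← det_mul, Units.mul_inv, det_one, mul_one, det_fin_two_of]
        linear_combination hdet
  have hgy : v₁ * p₀⁻¹ * v₀ * (g : GL chevG2.Idx F) * (v₁ * p₀⁻¹ * v₀)⁻¹ = y * z := by
    rw [← hyz, ← hL]
    calc v₁ * p₀⁻¹ * v₀ * (g : GL chevG2.Idx F) * (v₁ * p₀⁻¹ * v₀)⁻¹
        = v₁ * (p₀⁻¹ * (v₀ * (g : GL chevG2.Idx F) * v₀⁻¹) * p₀) * v₁⁻¹ := by group
      _ = _ := by rw [e]; group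
  set V := v₁ * p₀⁻¹ * v₀
  have hV : V ∈ chevG2.group F := mul_mem (mul_mem hv₁ (inv_mem hp₀G)) hv₀
  obtain ⟨a, ha, hya⟩ := hy
  obtain ⟨b, hb, hzb⟩ := hz
  refine ⟨⟨V⁻¹ * a, mul_mem (inv_mem hV) ha⟩, ⟨V⁻¹ * b, mul_mem (inv_mem hV) hb⟩, Subtype.ext ?_⟩
  show (g : GL chevG2.Idx F) = V⁻¹ * a * lev X * (V⁻¹ * a)⁻¹ * (V⁻¹ * b * lev X * (V⁻¹ * b)⁻¹)
  calc (g : GL chevG2.Idx F) = V⁻¹ * (V * g * V⁻¹) * V := by group
    _ = _ := by rw [hgy, hya, hzb]; group

end CfsgLib.G2Square
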