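import Cfsg.Agent.Lib.G2Square.Levi

/-!
Elements `w n`, `w` in the radical, lying in the open cell of the parabolic subgroup, and their Levi parts.
-/

set_option autoImplicit false
set_option linter.unusedSectionVars false

namespace CfsgLib.G2Square

open Cfsg.Lie CfsgLib.Chev CfsgLib.ChevField CfsgLib.G2Invol CfsgLib.ChevSL2 CfsgLib.SteinbergTwo
open Matrix

variable {F : Type*} [Field F]

/-- `K` is the Levi part of some `w n` with `w` in the radical -/
def Hits (n : GL chevG2.Idx F) (K : GL (Fin 2) F) : Prop :=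
  ∃ w ∈ Up F, ∃ a ∈ Um F, ∃ b ∈ Up F, w * n = a * lev K * b

/-- the upper unitriangular matrices -/
def upper (σ : F) : GL (Fin 2) F := SpecialLinearGroup.toGL (img F (true, σ))

theorem coe_upper (σ : F) : (upper σ : Matrix (Fin 2) (Fin 2) F) = !![1, σ; 0, 1] := rfl

theorem lev_upper (σ : F) : lev (upper σ) = elX chevG2 F 7 σ := by
  rw [upper, lev_toGL, phi7_img]; rfl

theorem mem_up {r : ℕ} (hr : r ∈ [6, 8, 9, 10, 11]) (t : F) : elX chevG2 F r t ∈ Up F := by
  have h : ∀ r ∈ [6, 8, 9, 10, 11], r < chevG2.nroots ∧ 0 < lv r := by unfold lv; decide +kernel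
  exact elX_mem_uGen (h r hr).1 (P := Upos) (h r hr).2 t

theorem mem_um {r : ℕ} (hr : r ∈ [0, 1, 2, 3, 5]) (t : F) : elX chevG2 F r t ∈ Um F := by
  have h : ∀ r ∈ [0, 1, 2, 3, 5], r < chevG2.nroots ∧ lv r < 0 := by unfold lv; decide +kernel
  exact elX_mem_uGen (h r hr).1 (P := Uneg) (h r hr).2 t

/-- the upper unitriangular matrices may be appended when `n` carries them into the radical -/
theorem Hits.upper {n : GL chevG2.Idx F} {K : GL (Fin 2) F} (h : Hits n K) (σ : F)
    (hn : n * elX chevG2 F 7 σ * n⁻¹ ∈ Up F) : Hits n (K * G2Square.upper σ) := by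
  obtain ⟨w, hw, a, ha, b, hb, e⟩ := h
  refine ⟨w * (n * elX chevG2 F 7 σ * n⁻¹), mul_mem hw hn, a, ha,
    (lev (G2Square.upper σ))⁻¹ * b * lev (G2Square.upper σ), ?_, ?_⟩
  · have := lev_conj_up (G2Square.upper σ)⁻¹ hb
    rwa [map_inv, inv_inv] at this
  · rw [map_mul, lev_upper]
    calc w * (n * elX chevG2 F 7 σ * n⁻¹) * n = w * n * elX chevG2 F 7 σ := by group
      _ = _ := by rw [e]; group

theorem cell_identity {r : ℕ} (hr : r < chevG2.nroots) {t : F} (ht : t ≠ 0) :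
    elX chevG2 F r t * elN chevG2 F r 1 = elX chevG2 F (chevG2.neg r) t⁻¹ *
      torus chevG2 G2.tabs F (corChar chevG2 G2.tabs r (Units.mk0 (-t) (neg_ne_zero.2 ht))) *
      elX chevG2 F r (-t⁻¹) := by
  obtain ⟨φ, -, hφ⟩ := exists_hom hcG (F := F) hr
  have e : img F (true, t) * jj = img F (false, t⁻¹) * dd (Units.mk0 (-t) (neg_ne_zero.2 ht)) * img F (true, -t⁻¹) := by
    ext i j
    fin_cases i <;> fin_cases j <;>
      simp [SpecialLinearGroup.coe_mul, coe_img, coe_jj, coe_dd, Matrix.mul_apply, Fin.sum_univ_two, ht] <;>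
      field_simp <;> ring
  have h := congrArg φ e
  rw [map_mul, map_mul, map_mul, hom_jj hcG hr φ hφ, hom_dd hcG hr φ hφ, hφ, hφ, hφ] at h
  exact h

theorem swap_identity {r : ℕ} (hr : r < chevG2.nroots) {s k : F} (μ : Fˣ) (hμ : (μ : F) = 1 + s * k) :
    elX chevG2 F r s * elX chevG2 F (chevG2.neg r) k = elX chevG2 F (chevG2.neg r) (k / μ) *
      torus chevG2 G2.tabs F (corChar chevG2 G2.tabs r μ) * elX chevG2 F r (s / μ) := by
  obtain ⟨φ, -, hφ⟩ := exists_hom hcG (F := F) hr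
  have hμ0 : (μ : F) ≠ 0 := μ.ne_zero
  have e : img F (true, s) * img F (false, k) = img F (false, k / μ) * dd μ * img F (true, s / μ) := by
    ext i j
    fin_cases i <;> fin_cases j <;>
      simp [SpecialLinearGroup.coe_mul, coe_img, coe_dd, Matrix.mul_apply, Fin.sum_univ_two] <;>
      field_simp <;> rw [hμ] <;> ring
  have h := congrArg φ e
  rw [map_mul, map_mul, map_mul, hom_dd hcG hr φ hφ, hφ, hφ, hφ, hφ] at h
  exact h

theorem cor6 (u : Fˣ) : torus chevG2 G2.tabs F (corChar chevG2 G2.tabs 6 u) = lev (diag2 1 u) := by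
  rw [lev_diag, tor, chr_ext (χ := corChar chevG2 G2.tabs 6 u)]
  congr 2
  · rw [corChar, show (∑ k : Fin chevG2.rank, cv G2.tabs 6 k * cm chevG2 k ia) = -1 by decide +kernel, one_div,
      _root_.zpow_neg_one]
  · rw [corChar, show (∑ k : Fin chevG2.rank, cv G2.tabs 6 k * cm chevG2 k ib) = 2 by decide +kernel, div_one,
      zpow_ofNat]

theorem cor11' (u : Fˣ) : torus chevG2 G2.tabs F (corChar chevG2 G2.tabs 11 u) = lev (diag2 u u) := by
  rw [lev_diag, cor11, tor]
  congr 2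
  · rw [div_self']
  · rw [sq, mul_div_assoc, div_self', mul_one]

theorem det_diag2 (l m : Fˣ) : GeneralLinearGroup.det (diag2 l m) = l * m := Units.ext (by
  rw [GeneralLinearGroup.val_det_apply, coe_diag2, det_fin_two_of, Units.val_mul]; ring)

theorem det_toGL (A : SpecialLinearGroup (Fin 2) F) : GeneralLinearGroup.det (SpecialLinearGroup.toGL A) = 1 :=
  Units.ext A.2

/-- the Weyl element of the long fundamental root -/
noncomputable def n1 (F : Type*) [Field F] : GL chevG2.Idx F := nProd chevG2 F [ib]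

/-- the Weyl element moving the highest root to minus the long fundamental root -/
noncomputable def n2 (F : Type*) [Field F] : GL chevG2.Idx F := nProd chevG2 F [ib, ia, ib]

/-- the Weyl element of the highest root -/
noncomputable def n3 (F : Type*) [Field F] : GL chevG2.Idx F := elN chevG2 F 11 1

theorem simple_vals : chevG2.simple ia.val = 7 ∧ chevG2.simple ib.val = 6 := by decide +kernel

theorem hits_n1 (E : Fˣ) : Hits (n1 F) (diag2 1 E) := by
  have hn : n1 F = elN chevG2 F 6 1 := by rw [n1, nProd_cons, nProd_nil, mul_one, simple_vals.2]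
  have h := cell_identity (F := F) (r := 6) (by decide) (t := -(E : F)) (neg_ne_zero.2 E.ne_zero)
  rw [show chevG2.neg 6 = 5 by decide +kernel,
    show Units.mk0 (- -(E : F)) (neg_ne_zero.2 (neg_ne_zero.2 E.ne_zero)) = E from Units.ext (neg_neg _), cor6] at h
  refine ⟨_, mem_up (r := 6) (by simp) (-(E : F)), _, mem_um (r := 5) (by simp) (-(E : F))⁻¹, _,
    mem_up (r := 6) (by simp) (-(-(E : F))⁻¹), ?_⟩
  rw [hn]; exact h

theorem n_upper {L : List (Fin chevG2.rank)} (h : 0 < lv (sigs chevG2 G2.tabs L 7)) (σ : F) :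
    nProd chevG2 F L * elX chevG2 F 7 σ * (nProd chevG2 F L)⁻¹ ∈ Up F := by
  obtain ⟨c, -, hc⟩ := nProd_conj_elX hcG (F := F) L n7
  rw [hc]
  exact elX_mem_uGen (sigs_lt hcG L n7) (P := Upos) h _

theorem lv_n1 : 0 < lv (sigs chevG2 G2.tabs [ib] 7) := by unfold lv; decide +kernel

theorem lv_n2 : 0 < lv (sigs chevG2 G2.tabs [ib, ia, ib] 7) := by unfold lv; decide +kernel

theorem hits_n2 (E : Fˣ) : Hits (n2 F) (diag2 1 E * SpecialLinearGroup.toGL jj) := by
  set na := elN chevG2 F 7 (1 : F) with hna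
  set nb := elN chevG2 F 6 (1 : F) with hnb
  have hn : n2 F = nb * (na * nb) := by
    rw [n2, nProd_cons, nProd_cons, nProd_cons, nProd_nil, mul_one, simple_vals.1, simple_vals.2]
  have hjj : phi7 (F := F) jj = na := hom_jj hcG n7 phi7 phi7_img
  have hA := cell_identity (F := F) (r := 6) (by decide) (t := -(E : F)) (neg_ne_zero.2 E.ne_zero)
  rw [show chevG2.neg 6 = 5 by decide +kernel, ← hnb,
    show Units.mk0 (- -(E : F)) (neg_ne_zero.2 (neg_ne_zero.2 E.ne_zero)) = E from Units.ext (neg_neg _), cor6] at hA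
  have hB := cell_identity (F := F) (r := 6) (by decide) (t := (-1 : F)) (neg_ne_zero.2 one_ne_zero)
  rw [show chevG2.neg 6 = 5 by decide +kernel, ← hnb,
    show Units.mk0 (- -(1 : F)) (neg_ne_zero.2 (neg_ne_zero.2 one_ne_zero)) = 1 from Units.ext (by simp),
    corChar_one, map_one, mul_one] at hB
  set β : F := -(-(E : F))⁻¹ with hβ
  set s : F := -(E : F)
  set H := lev (diag2 (1 : Fˣ) E) with hH
  have c1 : ∀ t, na * elX chevG2 F 6 t * na⁻¹ = elX chevG2 F 10 ((eta chevG2 G2.tabs ia 6 : F) * t) := fun t => by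
    have h := nOne_conj_elX hcG (F := F) ia (s := 6) (by decide) t
    rwa [simple_vals.1, show sig chevG2 G2.tabs ia 6 = 10 by decide +kernel] at h
  have c2 : ∀ t, na * elX chevG2 F 10 t * na⁻¹ = elX chevG2 F 6 ((eta chevG2 G2.tabs ia 10 : F) * t) := fun t => by
    have h := nOne_conj_elX hcG (F := F) ia (s := 10) (by decide) t
    rwa [simple_vals.1, show sig chevG2 G2.tabs ia 10 = 6 by decide +kernel] at h
  have c3 : ∀ t, nb * elX chevG2 F 11 t * nb⁻¹ = elX chevG2 F 10 ((eta chevG2 G2.tabs ib 11 : F) * t) := fun t => by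
    have h := nOne_conj_elX hcG (F := F) ib (s := 11) (by decide) t
    rwa [simple_vals.2, show sig chevG2 G2.tabs ib 11 = 10 by decide +kernel] at h
  obtain ⟨β', hβ'⟩ : ∃ β', elX chevG2 F 6 β * na = na * elX chevG2 F 10 β' := by
    have hη : (eta chevG2 G2.tabs ia 10 : F) ≠ 0 := by
      rcases eta_cast hcG (F := F) ia (show 10 < chevG2.nroots by decide) with e | e <;> simp [e]
    refine ⟨β / (eta chevG2 G2.tabs ia 10 : F), ?_⟩
    rw [← mul_div_cancel₀ β hη, ← c2]
    field_simp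
    group
  obtain ⟨γ, hγ⟩ : ∃ γ, elX chevG2 F 10 β' * nb = nb * elX chevG2 F 11 γ := by
    have hη : (eta chevG2 G2.tabs ib 11 : F) ≠ 0 := by
      rcases eta_cast hcG (F := F) ib (show 11 < chevG2.nroots by decide) with e | e <;> simp [e]
    refine ⟨β' / (eta chevG2 G2.tabs ib 11 : F), ?_⟩
    rw [← mul_div_cancel₀ β' hη, ← c3]
    field_simp
    group
  set η6 : F := (eta chevG2 G2.tabs ia 6 : F) * (-1)
  have hy : elX chevG2 F 10 η6 = na * elX chevG2 F 6 (-1) * na⁻¹ := (c1 _).symm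
  obtain ⟨θ, hθ⟩ : ∃ θ, H * elX chevG2 F 10 η6 * H⁻¹ = elX chevG2 F 10 θ := by
    rw [hH, lev_diag, tor]; exact ⟨_, torus_conj_elX hcG _ (by decide) _⟩
  have hcomm : ∀ u v, elX chevG2 F 10 u * elX chevG2 F 5 v = elX chevG2 F 5 v * elX chevG2 F 10 u := fun u v =>
    ChevCent.commute_elX hcG hcommG (by decide) (by decide) (by decide +kernel)
      (by rw [show chevG2.commTerms 10 5 = [] by decide +kernel]; simp) u v
  refine ⟨elX chevG2 F 10 θ * elX chevG2 F 6 s, mul_mem (mem_up (by simp) _) (mem_up (by simp) _),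
    elX chevG2 F 5 s⁻¹ * (lev (diag2 1 E * SpecialLinearGroup.toGL jj) * elX chevG2 F 5 (-1 : F)⁻¹ *
      (lev (diag2 1 E * SpecialLinearGroup.toGL jj))⁻¹), mul_mem (mem_um (by simp) _) (lev_conj_um _ (mem_um (by simp) _)),
    elX chevG2 F 6 (-(-1 : F)⁻¹) * elX chevG2 F 11 γ, mul_mem (mem_up (by simp) _) (mem_up (by simp) _), ?_⟩
  rw [hn, map_mul, lev_toGL, hjj, ← hH]
  calc elX chevG2 F 10 θ * elX chevG2 F 6 s * (nb * (na * nb))
      = elX chevG2 F 10 θ * (elX chevG2 F 6 s * nb) * (na * nb) := by group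
    _ = elX chevG2 F 10 θ * elX chevG2 F 5 s⁻¹ * H * (elX chevG2 F 6 β * na) * nb := by rw [hA]; group
    _ = elX chevG2 F 5 s⁻¹ * (H * elX chevG2 F 10 η6 * H⁻¹) * H * (na * elX chevG2 F 10 β') * nb := by
      rw [hcomm, hβ', hθ]
    _ = elX chevG2 F 5 s⁻¹ * H * na * elX chevG2 F 6 (-1) * (elX chevG2 F 10 β' * nb) := by rw [hy]; group
    _ = elX chevG2 F 5 s⁻¹ * H * na * (elX chevG2 F 6 (-1) * nb) * elX chevG2 F 11 γ := by rw [hγ]; group
    _ = _ := by rw [hB]; group

theorem hits_n3_diag (z m : Fˣ) : Hits (n3 F) (diag2 z m) := by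
  set t : F := -(z : F) with ht
  have ht0 : t ≠ 0 := neg_ne_zero.2 z.ne_zero
  have hA := cell_identity (F := F) (r := 11) (by decide) (t := t) ht0
  rw [neg11, show Units.mk0 (-t) (neg_ne_zero.2 ht0) = z from Units.ext (by simp [ht]), cor11'] at hA
  set H := lev (diag2 z z) with hH
  obtain ⟨M, hM, hM1⟩ : ∃ M : ℤ, chevG2.commTerms 0 10 = [(5, M, 1, 1)] ∧ (M = 1 ∨ M = -1) :=
    ⟨_, rfl, by decide +kernel⟩
  obtain ⟨M', hM'⟩ : ∃ M' : ℤ, chevG2.commTerms 0 6 = [(1, M', 1, 1)] := ⟨_, rfl⟩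
  set κ : F := (M : F) * (-t⁻¹) * t with hκ
  have hκ0 : κ ≠ 0 := by
    rcases hM1 with e | e <;> simp [hκ, e, ht0]
  set μ : Fˣ := m / z
  set s : F := ((μ : F) - 1) / κ
  have hsw := swap_identity (F := F) (r := 6) (by decide) μ (s := s) (k := κ) (by simp [s, hκ0])
  rw [show chevG2.neg 6 = 5 by decide +kernel, cor6] at hsw
  set G := lev (diag2 (1 : Fˣ) μ) with hG
  have e10 : elX chevG2 F 10 t * elX chevG2 F 0 t⁻¹ =
      elX chevG2 F 0 t⁻¹ * elX chevG2 F 5 κ * elX chevG2 F 10 t := by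
    rw [elX_comm hcG hcommG (r := 0) (s := 10) (by decide) (by decide) (by decide) (by decide +kernel),
      ChevalleyDatum.commWord, hM]
    simp only [List.map_cons, List.map_nil, wordGL, List.prod_cons, List.prod_nil, mul_one, pow_one]
    rw [← hκ, mul_assoc (elX chevG2 F 0 _), mul_assoc (elX chevG2 F 0 _)]
    rw [ChevCent.commute_elX hcG hcommG (r := 10) (s := 5) (by decide) (by decide) (by decide +kernel)
      (by rw [show chevG2.commTerms 10 5 = [] by decide +kernel]; simp)]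
  set γ : F := (M' : F) * (-t⁻¹) * s
  have e6 : elX chevG2 F 6 s * elX chevG2 F 0 t⁻¹ =
      elX chevG2 F 0 t⁻¹ * elX chevG2 F 1 γ * elX chevG2 F 6 s := by
    rw [elX_comm hcG hcommG (r := 0) (s := 6) (by decide) (by decide) (by decide) (by decide +kernel),
      ChevalleyDatum.commWord, hM']
    simp only [List.map_cons, List.map_nil, wordGL, List.prod_cons, List.prod_nil, mul_one, pow_one]
    rw [mul_assoc (elX chevG2 F 0 _), mul_assoc (elX chevG2 F 0 _)]
    rw [ChevCent.commute_elX hcG hcommG (r := 6) (s := 1) (by decide) (by decide) (by decide +kernel)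
      (by rw [show chevG2.commTerms 6 1 = [] by decide +kernel]; simp)]
  refine ⟨elX chevG2 F 6 s * elX chevG2 F 10 t * elX chevG2 F 11 t,
    mul_mem (mul_mem (mem_up (by simp) _) (mem_up (by simp) _)) (mem_up (by simp) _),
    elX chevG2 F 0 t⁻¹ * elX chevG2 F 1 γ * elX chevG2 F 5 (κ / μ),
    mul_mem (mul_mem (mem_um (by simp) _) (mem_um (by simp) _)) (mem_um (by simp) _),
    H⁻¹ * (elX chevG2 F 6 (s / μ) * elX chevG2 F 10 t) * H * elX chevG2 F 11 (-t⁻¹),
    mul_mem (by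
      have := lev_conj_up (diag2 z z)⁻¹ (mul_mem (mem_up (F := F) (r := 6) (by simp) (s / μ))
        (mem_up (F := F) (r := 10) (by simp) t))
      rwa [map_inv, inv_inv] at this) (mem_up (by simp) _), ?_⟩
  have hzm : lev (diag2 z m) = G * H := by
    rw [hG, hH, ← map_mul]
    congr 1
    ext i j
    fin_cases i <;> fin_cases j <;> simp [diag2, μ, Units.val_mul, Matrix.mul_apply, Fin.sum_univ_two]
  rw [hzm, n3]
  calc elX chevG2 F 6 s * elX chevG2 F 10 t * elX chevG2 F 11 t * elN chevG2 F 11 1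
      = elX chevG2 F 6 s * elX chevG2 F 10 t * (elX chevG2 F 11 t * elN chevG2 F 11 1) := by group
    _ = elX chevG2 F 6 s * (elX chevG2 F 10 t * elX chevG2 F 0 t⁻¹) * H * elX chevG2 F 11 (-t⁻¹) := by
      rw [hA]; group
    _ = (elX chevG2 F 6 s * elX chevG2 F 0 t⁻¹) * elX chevG2 F 5 κ * elX chevG2 F 10 t * H *
        elX chevG2 F 11 (-t⁻¹) := by rw [e10]; group
    _ = elX chevG2 F 0 t⁻¹ * elX chevG2 F 1 γ * (elX chevG2 F 6 s * elX chevG2 F 5 κ) * elX chevG2 F 10 t * H *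
        elX chevG2 F 11 (-t⁻¹) := by rw [e6]; group
    _ = _ := by rw [hsw]; group

theorem hits_n3 (P : SpecialLinearGroup (Fin 2) F) (z m : Fˣ) :
    Hits (n3 F) (SpecialLinearGroup.toGL P * diag2 z m * (SpecialLinearGroup.toGL P)⁻¹) := by
  obtain ⟨w, hw, a, ha, b, hb, e⟩ := hits_n3_diag z m
  set k := lev (SpecialLinearGroup.toGL P) with hk
  have hc : k * n3 F = n3 F * k := by
    rw [hk, lev_toGL, n3, ← hom_jj hcG n11 phi11 phi11_img]
    exact (commute_phi P jj).eq
  refine ⟨k * w * k⁻¹, lev_conj_up _ hw, k * a * k⁻¹, lev_conj_um _ ha, k * b * k⁻¹, lev_conj_up _ hb, ?_⟩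
  rw [map_mul, map_mul, map_inv, ← hk]
  calc k * w * k⁻¹ * n3 F = k * w * (k⁻¹ * (n3 F * k)) * k⁻¹ := by group
    _ = k * (w * n3 F) * k⁻¹ := by rw [← hc]; group
    _ = _ := by rw [e]; group

end CfsgLib.G2Square
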