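import Mathlib

/-!
Products of two elements of one elliptic class of GL(2).
-/

set_option autoImplicit false

namespace CfsgLib.G2Square

open Matrix

variable {K : Type*} [Field K]

/-- `d` times the identity, or not scalar of trace different from `2 d` -/
def Good (d : K) (M : Matrix (Fin 2) (Fin 2) K) : Prop :=
  M = d • (1 : Matrix (Fin 2) (Fin 2) K) ∨
    ((∀ c : K, M ≠ c • (1 : Matrix (Fin 2) (Fin 2) K)) ∧ trace M ≠ 2 * d)

/-- prescribed trace and determinant -/
def Cls (t d : K) (A : Matrix (Fin 2) (Fin 2) K) : Prop := trace A = t ∧ det A = d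

theorem trace_conj (P : GL (Fin 2) K) (M : Matrix (Fin 2) (Fin 2) K) :
    trace ((P : Matrix (Fin 2) (Fin 2) K) * M * ((P⁻¹ : GL (Fin 2) K) : Matrix (Fin 2) (Fin 2) K)) = trace M := by
  rw [Matrix.trace_mul_cycle, Units.inv_mul, one_mul]

theorem det_conj (P : GL (Fin 2) K) (M : Matrix (Fin 2) (Fin 2) K) :
    det ((P : Matrix (Fin 2) (Fin 2) K) * M * ((P⁻¹ : GL (Fin 2) K) : Matrix (Fin 2) (Fin 2) K)) = det M := by
  rw [det_mul, det_mul, mul_comm, ← mul_assoc, ← det_mul, Units.inv_mul, det_one, one_mul]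

theorem conj_smul_one (P : GL (Fin 2) K) (c : K) :
    (P : Matrix (Fin 2) (Fin 2) K) * (c • 1) * ((P⁻¹ : GL (Fin 2) K) : Matrix (Fin 2) (Fin 2) K) = c • 1 := by
  rw [mul_smul_comm, mul_one, smul_mul_assoc, Units.mul_inv]

theorem Good.conj {d : K} {M : Matrix (Fin 2) (Fin 2) K} (h : Good d M) (P : GL (Fin 2) K) :
    Good d ((P : Matrix (Fin 2) (Fin 2) K) * M * ((P⁻¹ : GL (Fin 2) K) : Matrix (Fin 2) (Fin 2) K)) := by
  rcases h with rfl | ⟨h1, h2⟩
  · exact Or.inl (conj_smul_one P d)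
  · refine Or.inr ⟨fun c hc => h1 c ?_, by rwa [trace_conj]⟩
    have e : M = ((P⁻¹ : GL (Fin 2) K) : Matrix (Fin 2) (Fin 2) K) *
        ((P : Matrix (Fin 2) (Fin 2) K) * M * ((P⁻¹ : GL (Fin 2) K) : Matrix (Fin 2) (Fin 2) K)) *
        (P : Matrix (Fin 2) (Fin 2) K) := by
      rw [mul_assoc, Matrix.mul_assoc ((P : Matrix (Fin 2) (Fin 2) K) * M), Units.inv_mul, mul_one, ← mul_assoc,
        Units.inv_mul, one_mul]
    rw [e, hc]
    simpa using conj_smul_one P⁻¹ c

/-- a matrix with nonzero lower left entry is conjugate to a companion matrix -/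
theorem companion (M : Matrix (Fin 2) (Fin 2) K) (h : M 1 0 ≠ 0) :
    ∃ P : GL (Fin 2) K, M = (P : Matrix (Fin 2) (Fin 2) K) * !![0, -det M; 1, trace M] *
      ((P⁻¹ : GL (Fin 2) K) : Matrix (Fin 2) (Fin 2) K) := by
  let P : GL (Fin 2) K := GeneralLinearGroup.mkOfDetNeZero !![1, M 0 0; 0, M 1 0] (by
    rw [det_fin_two_of]; simpa using h)
  refine ⟨P, ?_⟩
  have e : (P : Matrix (Fin 2) (Fin 2) K) * !![0, -det M; 1, trace M] = M * (P : Matrix (Fin 2) (Fin 2) K) := by
    show !![1, M 0 0; 0, M 1 0] * _ = M * !![1, M 0 0; 0, M 1 0]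
    ext i j
    fin_cases i <;> fin_cases j <;> simp [Matrix.mul_apply, Fin.sum_univ_two, det_fin_two, trace_fin_two] <;> ring
  rw [e, mul_assoc, Units.mul_inv, mul_one]

theorem coe_toGL' (P : SpecialLinearGroup (Fin 2) K) :
    (SpecialLinearGroup.toGL P : Matrix (Fin 2) (Fin 2) K) = (P : Matrix (Fin 2) (Fin 2) K) := rfl

theorem coe_toGL_inv (P : SpecialLinearGroup (Fin 2) K) :
    (((SpecialLinearGroup.toGL P)⁻¹ : GL (Fin 2) K) : Matrix (Fin 2) (Fin 2) K) =
      adjugate (P : Matrix (Fin 2) (Fin 2) K) := by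
  rw [← map_inv]; rfl

/-- a matrix that is not scalar is conjugate to one with nonzero lower left entry -/
theorem exists_lower (M : Matrix (Fin 2) (Fin 2) K) (h : ∀ c : K, M ≠ c • (1 : Matrix (Fin 2) (Fin 2) K)) :
    ∃ P : SpecialLinearGroup (Fin 2) K,
      ((((SpecialLinearGroup.toGL P)⁻¹ : GL (Fin 2) K) : Matrix (Fin 2) (Fin 2) K) * M *
        (SpecialLinearGroup.toGL P : Matrix (Fin 2) (Fin 2) K)) 1 0 ≠ 0 := by
  by_cases h10 : M 1 0 = 0
  · by_cases h01 : M 0 1 = 0
    · obtain ⟨Q, hQ⟩ : ∃ Q : SpecialLinearGroup (Fin 2) K, (Q : Matrix (Fin 2) (Fin 2) K) = !![1, 0; 1, 1] :=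
        ⟨⟨_, by simp [det_fin_two]⟩, rfl⟩
      refine ⟨Q, ?_⟩
      rw [coe_toGL_inv, coe_toGL', hQ, adjugate_fin_two_of]
      have hne : M 1 1 - M 0 0 ≠ 0 := fun e => h (M 0 0) (by
        ext i j
        fin_cases i <;> fin_cases j <;> simp [h10, h01, sub_eq_zero.1 e])
      simpa [Matrix.vecMul, dotProduct, Matrix.mul_apply, Fin.sum_univ_two, h10, h01, neg_add_eq_sub] using hne
    · obtain ⟨Q, hQ⟩ : ∃ Q : SpecialLinearGroup (Fin 2) K, (Q : Matrix (Fin 2) (Fin 2) K) = !![0, 1; -1, 0] :=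
        ⟨⟨_, by simp [det_fin_two]⟩, rfl⟩
      refine ⟨Q, ?_⟩
      rw [coe_toGL_inv, coe_toGL', hQ, adjugate_fin_two_of]
      simpa [Matrix.vecMul, dotProduct, Matrix.mul_apply, Fin.sum_univ_two, h10] using h01
  · exact ⟨1, by simpa using h10⟩

variable [Fintype K]

/-- an irreducible `X² - t X + d` with `t ≠ 0` and `d ≠ 1` -/
theorem exists_params (h3 : 3 ≤ Fintype.card K) :
    ∃ t d : K, t ≠ 0 ∧ d ≠ 0 ∧ d ≠ 1 ∧ ∀ r : K, r ^ 2 - t * r + d ≠ 0 := by
  classical
  obtain ⟨x, hx0, hx1⟩ : ∃ x : K, x ≠ 0 ∧ -x ^ 2 ≠ 1 := by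
    by_cases h2 : (2 : K) = 0
    · obtain ⟨x, -, hx⟩ := Finset.exists_mem_notMem_of_card_lt_card
        (s := ({0, 1} : Finset K)) (t := Finset.univ) (lt_of_le_of_lt Finset.card_le_two (by rw [Finset.card_univ]; omega))
      simp only [Finset.mem_insert, Finset.mem_singleton, not_or] at hx
      refine ⟨x, hx.1, fun e => hx.2 ?_⟩
      have e' : (x + 1) ^ 2 = 0 := by linear_combination -e + x * h2
      have := eq_zero_of_pow_eq_zero e'
      linear_combination this - h2
    · exact ⟨1, one_ne_zero, fun e => h2 (by linear_combination -e)⟩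
  have hd : -x ^ 2 ≠ 0 := neg_ne_zero.2 (pow_ne_zero _ hx0)
  set f : {r : K // r ≠ 0} → K := fun r => r.1 + -x ^ 2 / r.1 with hf
  have hns : ¬ Function.Surjective f := fun hs => by
    have h := Fintype.card_le_of_surjective f hs
    have h' := Fintype.card_subtype_lt (p := fun r : K => r ≠ 0) (x := 0) (by simp)
    omega
  obtain ⟨t, ht⟩ := not_forall.1 hns
  refine ⟨t, -x ^ 2, fun e => ht ⟨⟨x, hx0⟩, ?_⟩, hd, hx1, fun r hr => ?_⟩
  · rw [e, hf]; field_simp; ring
  · have hr0 : r ≠ 0 := fun e => hd (by rw [e] at hr; linear_combination hr)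
    refine ht ⟨⟨r, hr0⟩, ?_⟩
    rw [hf]
    field_simp
    linear_combination hr

theorem binary_form {s : K} (hs : s ^ 2 ≠ 4) (k : K) : ∃ a y : K, a ^ 2 + s * a * y + y ^ 2 = k := by
  classical
  by_cases h2 : (2 : K) = 0
  · have hchar : ringChar K = 2 := by
      haveI : CharP K 2 := CharTwo.of_one_ne_zero_of_two_eq_zero one_ne_zero h2
      exact ringChar.eq K 2
    obtain ⟨y, hy⟩ := FiniteField.isSquare_of_char_two hchar k
    exact ⟨0, y, by rw [hy]; ring⟩
  · have hc : (4 : K) - s ^ 2 ≠ 0 := sub_ne_zero.2 (Ne.symm hs)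
    have h4 : (4 : K) ≠ 0 := by rw [show (4 : K) = 2 * 2 by norm_num]; exact mul_ne_zero h2 h2
    have hodd : Fintype.card K % 2 = 1 := FiniteField.odd_card_of_char_ne_two fun e => h2 (by
      haveI : CharP K 2 := e ▸ ringChar.charP K
      exact CharTwo.two_eq_zero)
    obtain ⟨u, v, huv⟩ := FiniteField.exists_root_sum_quadratic
      (f := Polynomial.X ^ 2 - Polynomial.C k) (g := Polynomial.C ((4 - s ^ 2) / 4) * Polynomial.X ^ 2)
      (Polynomial.degree_X_pow_sub_C two_pos k) (Polynomial.degree_C_mul_X_pow 2 (div_ne_zero hc h4)) hodd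
    simp only [Polynomial.eval_sub, Polynomial.eval_pow, Polynomial.eval_X, Polynomial.eval_C,
      Polynomial.eval_mul] at huv
    refine ⟨u - s * v / 2, v, ?_⟩
    field_simp at huv ⊢
    linear_combination huv

/-- solving the trace condition for a companion matrix -/
theorem conic {t d : K} (ht : t ≠ 0) (hd : d ≠ 0) {T : K} (hT : T ≠ 2 * d) :
    ∃ a c : K, a ^ 2 + T * a * c + d ^ 2 * c ^ 2 - t * a - t * d * c + d = 0 := by
  suffices h : ∃ a y : K, a ^ 2 + T / d * a * y + y ^ 2 - t * a - t * y + d = 0 by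
    obtain ⟨a, y, h⟩ := h
    refine ⟨a, y / d, ?_⟩
    field_simp at h ⊢
    linear_combination h
  have hs2 : T / d ≠ 2 := fun e => hT (by rw [div_eq_iff hd] at e; exact e)
  by_cases hs : T / d = -2
  · have h2 : (2 : K) ≠ 0 := fun e => hs2 (by rw [hs, e, neg_zero])
    refine ⟨d / (2 * t), d / (2 * t), ?_⟩
    rw [hs]
    field_simp
    ring
  · have h : 2 + T / d ≠ 0 := fun e => hs (by linear_combination e)
    set s := T / d
    set c0 := t / (2 + s) with hc0
    obtain ⟨a, y, hay⟩ := binary_form (s := s) (fun e => by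
      rcases mul_eq_zero.1 (show (s - 2) * (2 + s) = 0 by linear_combination e) with e | e
      · exact hs2 (sub_eq_zero.1 e)
      · exact h e) (t * c0 - d)
    have hc : (2 + s) * c0 = t := by rw [hc0, mul_div_cancel₀ _ h]
    exact ⟨a + c0, y + c0, by linear_combination hay + (a + y + c0) * hc⟩

/-- every good matrix of determinant `d²` is a product of two matrices of the class -/
theorem cover {t d : K} (ht : t ≠ 0) (hd : d ≠ 0) {M : Matrix (Fin 2) (Fin 2) K} (hM : Good d M)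
    (hdet : det M = d ^ 2) : ∃ A B, Cls t d A ∧ Cls t d B ∧ A * B = M := by
  rcases hM with rfl | ⟨hns, htr⟩
  · refine ⟨!![0, -d; 1, t], !![t, d; -1, 0], ⟨by simp [trace_fin_two], by simp [det_fin_two]⟩,
      ⟨by simp [trace_fin_two], by simp [det_fin_two]⟩, ?_⟩
    ext i j
    fin_cases i <;> fin_cases j <;> simp [Matrix.mul_apply, Fin.sum_univ_two]
  obtain ⟨Q, hQ⟩ := exists_lower M hns
  obtain ⟨P, hP⟩ := companion _ hQ
  set R : GL (Fin 2) K := SpecialLinearGroup.toGL Q * P with hR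
  set T := trace M
  obtain ⟨a, c, hac⟩ := conic ht hd (T := T) htr
  set b := a * T + c * d ^ 2 - t * d with hb
  set A : Matrix (Fin 2) (Fin 2) K := !![a, b; c, t - a]
  set B : Matrix (Fin 2) (Fin 2) K := d⁻¹ • (!![t - a, -b; -c, a] * !![0, -d ^ 2; 1, T])
  have hA : Cls t d A := ⟨by simp [A, trace_fin_two], by
    simp only [A, det_fin_two_of, hb]; linear_combination -hac⟩
  have hB : Cls t d B := ⟨by
    simp only [B, trace_smul, trace_fin_two, smul_eq_mul, Matrix.mul_apply, Fin.sum_univ_two]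
    simp [hb]; field_simp; ring, by
    simp only [B, det_smul, det_mul, det_fin_two_of, Fintype.card_fin]
    field_simp
    have h2 : a * (t - a) - b * c = d := by rw [← det_fin_two_of]; exact hA.2
    simp only [hb]
    linear_combination (-d ^ 2) * hac⟩
  have hAB : A * B = !![0, -d ^ 2; 1, T] := by
    have e : A * !![t - a, -b; -c, a] = d • 1 := by
      ext i j
      fin_cases i <;> fin_cases j <;> simp [A, Matrix.mul_apply, Fin.sum_univ_two, hb] <;>
        first | linear_combination -hac | ring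
    simp only [B, mul_smul_comm, ← mul_assoc, e, smul_mul_assoc, one_mul, smul_smul, inv_mul_cancel₀ hd, one_smul]
  refine ⟨(R : Matrix (Fin 2) (Fin 2) K) * A * ((R⁻¹ : GL (Fin 2) K) : Matrix (Fin 2) (Fin 2) K),
    (R : Matrix (Fin 2) (Fin 2) K) * B * ((R⁻¹ : GL (Fin 2) K) : Matrix (Fin 2) (Fin 2) K),
    ⟨by rw [trace_conj, hA.1], by rw [det_conj, hA.2]⟩, ⟨by rw [trace_conj, hB.1], by rw [det_conj, hB.2]⟩, ?_⟩
  set Qg := SpecialLinearGroup.toGL Q
  have hT : trace (((Qg⁻¹ : GL (Fin 2) K) : Matrix (Fin 2) (Fin 2) K) * M * (Qg : Matrix (Fin 2) (Fin 2) K)) = T := by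
    simpa using trace_conj Qg⁻¹ M
  have hD : det (((Qg⁻¹ : GL (Fin 2) K) : Matrix (Fin 2) (Fin 2) K) * M * (Qg : Matrix (Fin 2) (Fin 2) K)) = d ^ 2 := by
    simpa [hdet] using det_conj Qg⁻¹ M
  rw [hT, hD, ← hAB] at hP
  have : M = (Qg : Matrix (Fin 2) (Fin 2) K) *
      (((Qg⁻¹ : GL (Fin 2) K) : Matrix (Fin 2) (Fin 2) K) * M * (Qg : Matrix (Fin 2) (Fin 2) K)) *
      ((Qg⁻¹ : GL (Fin 2) K) : Matrix (Fin 2) (Fin 2) K) := by
    simp [← mul_assoc]
  rw [this, hP, hR, _root_.mul_inv_rev, Units.val_mul, Units.val_mul]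
  simp [← mul_assoc]

/-- upper unitriangular left factors reach a good matrix -/
theorem upper_good {d : K} {N : Matrix (Fin 2) (Fin 2) K} (hdet : det N = d ^ 2) (hd : d ≠ 0) :
    ∃ σ : K, Good d (!![1, σ; 0, 1] * N) := by
  have hmul : ∀ σ, !![1, σ; 0, 1] * N = !![N 0 0 + σ * N 1 0, N 0 1 + σ * N 1 1; N 1 0, N 1 1] := fun σ => by
    ext i j
    fin_cases i <;> fin_cases j <;> simp [Matrix.mul_apply, Fin.sum_univ_two]
  rw [det_fin_two] at hdet
  by_cases h10 : N 1 0 = 0
  · rw [h10, mul_zero, sub_zero] at hdet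
    have h11 : N 1 1 ≠ 0 := right_ne_zero_of_mul (hdet ▸ pow_ne_zero 2 hd)
    by_cases hdd : N 0 0 = d ∧ N 1 1 = d
    · refine ⟨-(N 0 1) / d, Or.inl ?_⟩
      rw [hmul, h10, hdd.1, hdd.2]
      ext i j
      fin_cases i <;> fin_cases j <;> simp [hd]
    · refine ⟨(1 - N 0 1) / N 1 1, Or.inr ⟨fun c e => ?_, fun e => hdd ?_⟩⟩
      · have := congrFun (congrFun e 0) 1
        rw [hmul] at this
        simp [div_mul_cancel₀ _ h11] at this
      · rw [hmul, trace_fin_two] at e
        simp [h10] at e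
        have h : (N 0 0 - d) ^ 2 = 0 := by linear_combination (N 0 0) * e - hdet
        have := sub_eq_zero.1 (eq_zero_of_pow_eq_zero h)
        exact ⟨this, by linear_combination e - this⟩
  · refine ⟨(2 * d + 1 - N 0 0 - N 1 1) / N 1 0, Or.inr ⟨fun c e => ?_, ?_⟩⟩
    · have := congrFun (congrFun e 1) 0
      rw [hmul] at this
      simp [h10] at this
    · rw [hmul, trace_fin_two]
      intro h
      simp [div_mul_cancel₀ _ h10] at h
      exact one_ne_zero (α := K) (by linear_combination h)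

/-- conjugates of split semisimple left factors reach a good matrix -/
theorem split_good (h3 : 3 ≤ Fintype.card K) {d : K} (hd : d ≠ 0) {N : Matrix (Fin 2) (Fin 2) K}
    (hN : det N ≠ 0) :
    ∃ (P : SpecialLinearGroup (Fin 2) K) (z m : K), z ≠ 0 ∧ m ≠ 0 ∧ z * m * det N = d ^ 2 ∧
      Good d ((SpecialLinearGroup.toGL P : Matrix (Fin 2) (Fin 2) K) * !![z, 0; 0, m] *
        (((SpecialLinearGroup.toGL P)⁻¹ : GL (Fin 2) K) : Matrix (Fin 2) (Fin 2) K) * N) := by
  classical
  by_cases hsc : ∃ c : K, N = c • (1 : Matrix (Fin 2) (Fin 2) K)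
  · obtain ⟨c, rfl⟩ := hsc
    have hc : c ≠ 0 := fun e => hN (by simp [e])
    refine ⟨1, d / c, d / c, div_ne_zero hd hc, div_ne_zero hd hc, ?_, Or.inl ?_⟩
    · simp; field_simp
    · ext i j
      fin_cases i <;> fin_cases j <;> simp <;> field_simp
  push Not at hsc
  set E := d ^ 2 / det N with hE
  have hE0 : E ≠ 0 := div_ne_zero (pow_ne_zero _ hd) hN
  by_cases hz : ∃ z : K, z ≠ 0 ∧ z ≠ E / z
  · obtain ⟨z, hz0, hzE⟩ := hz
    obtain ⟨Q, hQ⟩ := exists_lower N hsc
    set Qg := SpecialLinearGroup.toGL Q with hQg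
    set N' := ((Qg⁻¹ : GL (Fin 2) K) : Matrix (Fin 2) (Fin 2) K) * N * (Qg : Matrix (Fin 2) (Fin 2) K) with hN'
    set m := E / z
    have hδ : (m - z) * N' 1 0 ≠ 0 := mul_ne_zero (sub_ne_zero.2 hzE.symm) hQ
    set σ := (2 * d + 1 - z * N' 0 0 - m * N' 1 1) / ((m - z) * N' 1 0) with hσ
    obtain ⟨U, hU⟩ : ∃ U : SpecialLinearGroup (Fin 2) K, (U : Matrix (Fin 2) (Fin 2) K) = !![1, σ; 0, 1] :=
      ⟨⟨_, by simp [det_fin_two]⟩, rfl⟩
    set Ug := SpecialLinearGroup.toGL U with hUg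
    refine ⟨Q * U, z, m, hz0, div_ne_zero hE0 hz0, ?_, ?_⟩
    · rw [mul_div_cancel₀ _ hz0, div_mul_cancel₀ _ hN]
    have hmain : Good d ((Ug : Matrix (Fin 2) (Fin 2) K) * !![z, 0; 0, m] *
        ((Ug⁻¹ : GL (Fin 2) K) : Matrix (Fin 2) (Fin 2) K) * N') := by
      have e : (Ug : Matrix (Fin 2) (Fin 2) K) * !![z, 0; 0, m] *
          ((Ug⁻¹ : GL (Fin 2) K) : Matrix (Fin 2) (Fin 2) K) * N' =
          !![z * N' 0 0 + σ * (m - z) * N' 1 0, z * N' 0 1 + σ * (m - z) * N' 1 1; m * N' 1 0, m * N' 1 1] := by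
        rw [hUg, coe_toGL_inv, coe_toGL', hU, adjugate_fin_two_of]
        ext i j
        fin_cases i <;> fin_cases j <;> simp [Matrix.mul_apply, Fin.sum_univ_two] <;>
          first | (left; trivial) | (left; ring) | ring
      rw [e]
      refine Or.inr ⟨fun c hc => ?_, ?_⟩
      · have h := congrFun (congrFun hc 1) 0
        simp at h
        rcases h with h | h
        · exact div_ne_zero hE0 hz0 h
        · exact hQ h
      · rw [trace_fin_two]
        intro h
        simp at h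
        have hx : σ * ((m - z) * N' 1 0) = 2 * d + 1 - z * N' 0 0 - m * N' 1 1 := div_mul_cancel₀ _ hδ
        exact one_ne_zero (α := K) (by linear_combination h - hx)
    have hg := hmain.conj Qg
    rw [map_mul, ← hQg, ← hUg, _root_.mul_inv_rev, Units.val_mul, Units.val_mul]
    convert hg using 1
    simp only [hN', mul_assoc, Units.mul_inv, mul_one]
  · push Not at hz
    have hsq : ∀ z : K, z ≠ 0 → z * z = E := fun z hz0 => by
      have := hz z hz0; rwa [eq_div_iff hz0] at this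
    have hE1 : E = 1 := by rw [← hsq 1 one_ne_zero, mul_one]
    have hdet : det N = d ^ 2 := by
      have h : E * det N = d ^ 2 := div_mul_cancel₀ _ hN
      rwa [hE1, one_mul] at h
    have h2 : (2 : K) ≠ 0 := by
      intro h2
      obtain ⟨x, -, hx⟩ := Finset.exists_mem_notMem_of_card_lt_card
        (s := ({0, 1} : Finset K)) (t := Finset.univ) (lt_of_le_of_lt Finset.card_le_two (by rw [Finset.card_univ]; omega))
      simp only [Finset.mem_insert, Finset.mem_singleton, not_or] at hx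
      refine hx.2 ?_
      have e : (x - 1) ^ 2 = 0 := by linear_combination (hsq x hx.1).trans hE1 + (1 - x) * h2
      exact sub_eq_zero.1 (eq_zero_of_pow_eq_zero e)
    obtain ⟨ε, hε, htr⟩ : ∃ ε : K, ε * ε = 1 ∧ ε * trace N ≠ 2 * d := by
      by_cases h : trace N = 2 * d
      · refine ⟨-1, by ring, fun e => mul_ne_zero (mul_ne_zero h2 h2) hd ?_⟩
        linear_combination -e - h
      · exact ⟨1, one_mul 1, by rwa [one_mul]⟩
    have hε0 : ε ≠ 0 := left_ne_zero_of_mul (hε ▸ one_ne_zero)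
    have e : (!![ε, 0; 0, ε] : Matrix (Fin 2) (Fin 2) K) = ε • 1 := by
      ext i j; fin_cases i <;> fin_cases j <;> simp
    refine ⟨1, ε, ε, hε0, hε0, by rw [hε, one_mul, hdet], ?_⟩
    simp only [map_one, inv_one, Units.val_one, one_mul, mul_one, e, smul_mul_assoc]
    refine Or.inr ⟨fun c hc => hsc (ε * c) ?_, by rwa [trace_smul, smul_eq_mul]⟩
    rw [← one_smul K N, ← hε, mul_smul, hc, smul_smul]

end CfsgLib.G2Square
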