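import Cfsg.Agent.Lib.G2Square.GL2
import Cfsg.Agent.Lib.G2Orders.Levi
import Cfsg.Agent.Lib.ChevCent.EllipticTorus
import Cfsg.Agent.Lib.ChevCent.WeylAct

/-!
The Levi subgroup GL(2) of the parabolic subgroup of G₂ attached to the short fundamental root, and its
regular elliptic elements.
-/

set_option autoImplicit false
set_option linter.unusedSectionVars false

namespace CfsgLib.G2Square

open Cfsg.Lie CfsgLib.Chev CfsgLib.ChevField CfsgLib.G2Invol CfsgLib.ChevSL2 CfsgLib.SteinbergTwo CfsgLib.G2Orders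
open Matrix

variable {F : Type*} [Field F]

/-- the grading by the coefficient of the long fundamental root -/
noncomputable def lv (r : ℕ) : ℤ := rv chevG2 G2.tabs r ib

/-- positive grade -/
def Upos (r : ℕ) : Prop := 0 < lv r

/-- negative grade -/
def Uneg (r : ℕ) : Prop := lv r < 0

/-- the unipotent radical -/
def Up (F : Type*) [Field F] : Subgroup (GL chevG2.Idx F) := uGen chevG2 F Upos

/-- the opposite unipotent radical -/
def Um (F : Type*) [Field F] : Subgroup (GL chevG2.Idx F) := uGen chevG2 F Uneg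

/-- the determinant one part of a matrix -/
def slPart (M : GL (Fin 2) F) : SpecialLinearGroup (Fin 2) F :=
  ⟨!![((GeneralLinearGroup.det M)⁻¹ : Fˣ) * M 0 0, ((GeneralLinearGroup.det M)⁻¹ : Fˣ) * M 0 1; M 1 0, M 1 1], by
    rw [det_fin_two_of, mul_assoc, mul_assoc, ← mul_sub, ← det_fin_two,
      ← GeneralLinearGroup.val_det_apply, Units.inv_mul]⟩

theorem coe_slPart (M : GL (Fin 2) F) : (slPart M : Matrix (Fin 2) (Fin 2) F) =
    !![((GeneralLinearGroup.det M)⁻¹ : Fˣ) * M 0 0, ((GeneralLinearGroup.det M)⁻¹ : Fˣ) * M 0 1; M 1 0, M 1 1] :=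
  rfl

theorem slPart_mul (M N : GL (Fin 2) F) :
    slPart (M * N) = dtwist (GeneralLinearGroup.det N)⁻¹ (slPart M) * slPart N := by
  have h := (GeneralLinearGroup.det M).ne_zero
  have h' := (GeneralLinearGroup.det N).ne_zero
  rw [GeneralLinearGroup.val_det_apply] at h h'
  ext i j
  fin_cases i <;> fin_cases j <;>
    simp [coe_dtwist, coe_slPart, Matrix.mul_apply, Fin.sum_univ_two, Units.val_mul] <;>
    field_simp

/-- the torus part of a determinant -/
noncomputable def dtor (d : Fˣ) : GL chevG2.Idx F := tor d d⁻¹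

theorem dtor_swap (d : Fˣ) (A : SpecialLinearGroup (Fin 2) F) :
    phi7 A * dtor d = dtor d * phi7 (dtwist d⁻¹ A) := by
  rw [dtor, ← tor_conj7 d⁻¹ d A, ← mul_assoc, ← mul_assoc, tor_mul, mul_inv_cancel, inv_mul_cancel, tor_one,
    one_mul]
  congr 1
  exact (inv_eq_of_mul_eq_one_right (by rw [tor_mul, inv_mul_cancel, mul_inv_cancel, tor_one])).symm

/-- GL(2) as the Levi subgroup -/
noncomputable def lev : GL (Fin 2) F →* GL chevG2.Idx F where
  toFun M := dtor (GeneralLinearGroup.det M) * phi7 (slPart M)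
  map_one' := by
    have e : slPart (1 : GL (Fin 2) F) = 1 := by
      apply Subtype.ext
      rw [coe_slPart, map_one]
      ext i j
      fin_cases i <;> fin_cases j <;> simp
    rw [e, map_one, map_one, dtor, inv_one, tor_one, one_mul]
  map_mul' M N := by
    rw [slPart_mul, map_mul phi7, mul_assoc (dtor (GeneralLinearGroup.det M)), ← mul_assoc (phi7 (slPart M)), dtor_swap,
      map_mul GeneralLinearGroup.det]
    simp only [dtor, mul_inv, ← mul_assoc, tor_mul]

theorem lev_apply (M : GL (Fin 2) F) : lev M = dtor (GeneralLinearGroup.det M) * phi7 (slPart M) := rfl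

theorem lev_toGL (A : SpecialLinearGroup (Fin 2) F) : lev (SpecialLinearGroup.toGL A) = phi7 A := by
  have hd : GeneralLinearGroup.det (SpecialLinearGroup.toGL A) = 1 := Units.ext A.2
  have e : slPart (SpecialLinearGroup.toGL A) = A := by
    apply Subtype.ext
    rw [coe_slPart, hd]
    ext i j
    fin_cases i <;> fin_cases j <;> simp
  rw [lev_apply, e, hd, dtor, inv_one, tor_one, one_mul]

/-- a diagonal matrix -/
def diag2 (l m : Fˣ) : GL (Fin 2) F :=
  ⟨!![(l : F), 0; 0, m], !![(l⁻¹ : Fˣ), 0; 0, (m⁻¹ : Fˣ)],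
    by ext i j; fin_cases i <;> fin_cases j <;> simp,
    by ext i j; fin_cases i <;> fin_cases j <;> simp⟩

theorem coe_diag2 (l m : Fˣ) : (diag2 l m : Matrix (Fin 2) (Fin 2) F) = !![(l : F), 0; 0, m] := rfl

theorem lev_diag (l m : Fˣ) : lev (diag2 l m) = tor (l / m) (m ^ 2 / l) := by
  have hd : GeneralLinearGroup.det (diag2 l m) = l * m := Units.ext (by
    rw [GeneralLinearGroup.val_det_apply, coe_diag2, det_fin_two_of, Units.val_mul]; ring)
  have e : slPart (diag2 l m) = dd m⁻¹ := by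
    apply Subtype.ext
    rw [coe_slPart, hd, coe_dd]
    ext i j
    fin_cases i <;> fin_cases j <;> simp [diag2]
  rw [lev_apply, e, hd, phi7_dd, dtor, tor_mul]
  congr 1
  · apply Units.ext; push_cast; field_simp
  · simp only [_root_.inv_zpow', neg_neg, zpow_ofNat]
    apply Units.ext; push_cast; field_simp

theorem glMap_lev {E : Type*} [Field E] (ι : F →+* E) (M : GL (Fin 2) F) :
    glMap chevG2 ι (lev M) = lev (GeneralLinearGroup.map ι M) := by
  have hd : GeneralLinearGroup.det (GeneralLinearGroup.map ι M) = Units.map ι.toMonoidHom (GeneralLinearGroup.det M) :=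
    Units.ext (by simp [GeneralLinearGroup.val_det_apply, RingHom.map_det, RingHom.mapMatrix_apply])
  have e : slPart (GeneralLinearGroup.map ι M) = SpecialLinearGroup.map ι (slPart M) := by
    apply Subtype.ext
    rw [coe_slPart, hd]
    ext i j
    fin_cases i <;> fin_cases j <;>
      simp [coe_slPart, GeneralLinearGroup.map_apply]
  have hphi : ∀ A : SpecialLinearGroup (Fin 2) F, glMap chevG2 ι (phi7 A) = phi7 (SpecialLinearGroup.map ι A) := by
    intro A
    have h : (glMap chevG2 ι).comp phi7 = (phi7 (F := E)).comp (SpecialLinearGroup.map ι) := by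
      refine MonoidHom.eq_of_eqOn_dense (closure_img F) ?_
      rintro _ ⟨b, t, rfl⟩
      have e : SpecialLinearGroup.map ι (img F (b, t)) = img E (b, ι t) := by
        ext r s
        cases b <;> fin_cases r <;> fin_cases s <;> simp [coe_img]
      simp only [MonoidHom.comp_apply, e, phi7_img, rootPair]
      cases b
      · exact ChevField.glMap_elX hcG ι (neg_lt hcG n7) t
      · exact ChevField.glMap_elX hcG ι n7 t
    exact DFunLike.congr_fun h A
  rw [lev_apply, lev_apply, map_mul, hphi, e, hd, dtor, dtor, tor, ChevField.glMap_torus, tor]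
  congr 2
  funext i
  rcases fin_rank i with rfl | rfl <;> simp [chr_ia, chr_ib]

theorem levNorm_aux : ∀ r : Fin chevG2.nroots,
    (r.val = 7 ∨ r.val = 4 → lv r.val = 0) ∧ (lv r.val = 0 → r.val = 7 ∨ r.val = 4) := by
  unfold lv
  decide +kernel

theorem lv_comb {r s v : ℕ} (hr : lv r = 0) (h : CombRoot chevG2 G2.tabs r s v) :
    ∃ j : ℕ, 0 < j ∧ lv v = j * lv s := by
  obtain ⟨-, i, j, -, hj, e⟩ := h
  refine ⟨j, hj, ?_⟩
  have := congrFun e ib
  simp only [Pi.add_apply, Pi.smul_apply, smul_eq_mul] at this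
  rw [lv, this, ← lv, ← lv, hr, mul_zero, zero_add]

/-- the Levi subgroup normalises both radicals -/
theorem lev_normalizes (M : GL (Fin 2) F) :
    lev M ∈ Subgroup.normalizer (Up F : Set (GL chevG2.Idx F)) ∧
      lev M ∈ Subgroup.normalizer (Um F : Set (GL chevG2.Idx F)) := by
  have gen : ∀ P : ℕ → Prop, (∀ s, P s → lv s ≠ 0) → (∀ s v, ∀ j : ℕ, 0 < j → P s → lv v = j * lv s → P v) →
      lev M ∈ Subgroup.normalizer (uGen chevG2 F P : Set (GL chevG2.Idx F)) := by
    intro P hP0 hP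
    have hx : ∀ r, r < chevG2.nroots → (r = 7 ∨ r = 4) → ∀ t : F,
        elX chevG2 F r t ∈ Subgroup.normalizer (uGen chevG2 F P : Set (GL chevG2.Idx F)) := by
      intro r hr hr74 t
      have hr0 := (levNorm_aux ⟨r, hr⟩).1 hr74
      refine elX_mem_normalizer hcG hcommG hr (fun s _ hs _ => ⟨fun e => hP0 s hs ?_, fun v hv => ?_⟩) t
      · rw [e, lv, rv_neg hcG hr, Pi.neg_apply, ← lv, hr0, neg_zero]
      · obtain ⟨j, hj, he⟩ := lv_comb hr0 hv
        exact hP s v j hj hs he
    have hphi : (phi7 (F := F)).range ≤ Subgroup.normalizer (uGen chevG2 F P : Set (GL chevG2.Idx F)) := by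
      rw [phi7_range, rootSubgroup_eq hcG n7, rootSubgroup_eq hcG (neg_lt hcG n7)]
      refine sup_le ?_ ?_ <;> rw [uGen_le_iff] <;> intro r hr hP' t
      · exact hx r hr (Or.inl hP') t
      · exact hx r hr (Or.inr (by rw [hP', neg7])) t
    rw [lev_apply]
    exact mul_mem (diagonal_le_normalizer hcG P (tor_mem _)) (hphi ⟨_, rfl⟩)
  refine ⟨gen _ (fun s h e => ?_) (fun s v j hj h e => ?_), gen _ (fun s h e => ?_) (fun s v j hj h e => ?_)⟩
  · rw [Upos, e] at h; exact lt_irrefl _ h
  · show 0 < lv v; rw [e]; exact mul_pos (by exact_mod_cast hj) h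
  · rw [Uneg, e] at h; exact lt_irrefl _ h
  · show lv v < 0; rw [e]; exact mul_neg_of_pos_of_neg (by exact_mod_cast hj) h

theorem lev_conj_up (M : GL (Fin 2) F) {g : GL chevG2.Idx F} (hg : g ∈ Up F) : lev M * g * (lev M)⁻¹ ∈ Up F :=
  (Subgroup.mem_normalizer_iff.1 (lev_normalizes M).1 g).1 hg

theorem lev_conj_um (M : GL (Fin 2) F) {g : GL chevG2.Idx F} (hg : g ∈ Um F) : lev M * g * (lev M)⁻¹ ∈ Um F :=
  (Subgroup.mem_normalizer_iff.1 (lev_normalizes M).2 g).1 hg

theorem upos_pos : ∀ r : Fin chevG2.nroots, 0 < lv r.val → 6 ≤ r.val := by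
  unfold lv
  decide +kernel

theorem closedPos_upos : ClosedPos chevG2 G2.tabs Upos := by
  refine ⟨fun r hr h => upos_pos ⟨r, hr⟩ h, fun r s v _ _ hr hs hv => ?_⟩
  obtain ⟨-, i, j, hi, hj, e⟩ := hv
  have := congrFun e ib
  simp only [Pi.add_apply, Pi.smul_apply, smul_eq_mul] at this
  show 0 < lv v
  rw [lv, this]
  exact add_pos (mul_pos (by exact_mod_cast hi) hr) (mul_pos (by exact_mod_cast hj) hs)

/-- a torus element with no trivial root value on a closed set centralises no element of its root group -/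
theorem fixed_trivial {P : ℕ → Prop} (hP : ClosedPos chevG2 G2.tabs P) {χ : Fin chevG2.rank → Fˣ}
    (hne : ∀ r, r < chevG2.nroots → P r → chi χ (rv chevG2 G2.tabs r) ≠ 1) {g : GL chevG2.Idx F}
    (hg : g ∈ uGen chevG2 F P) (hcom : torus chevG2 G2.tabs F χ * g = g * torus chevG2 G2.tabs F χ) : g = 1 := by
  classical
  obtain ⟨t, rfl⟩ := uGen_exists hcG hcommG hP hg
  set L := rootsFrom chevG2 P 0
  have hconj : torus chevG2 G2.tabs F χ * uProd chevG2 F L t * (torus chevG2 G2.tabs F χ)⁻¹ =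
      uProd chevG2 F L (fun r => (chi χ (rv chevG2 G2.tabs r) : F) * t r) := by
    have hL : ∀ r ∈ L, r < chevG2.nroots := fun r hr => (mem_rootsFrom.1 hr).2.1
    clear_value L
    clear hg hcom
    induction L with
    | nil => simp [uProd]
    | cons a L ih =>
      have e : ∀ u : ℕ → F, uProd chevG2 F (a :: L) u = elX chevG2 F a (u a) * uProd chevG2 F L u :=
        fun u => by simp [uProd]
      rw [e, e, show ∀ τ x y : GL chevG2.Idx F, τ * (x * y) * τ⁻¹ = τ * x * τ⁻¹ * (τ * y * τ⁻¹) from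
        fun τ x y => by group, torus_conj_elX hcG χ (hL a (by simp)), ih fun r hr => hL r (by simp [hr])]
  rw [hcom, mul_inv_cancel_right] at hconj
  have h0 := uProd_inj hcG hP.1 0 hconj
  refine List.prod_eq_one fun x hx => ?_
  obtain ⟨r, hr, rfl⟩ := List.mem_map.1 hx
  have h := h0 r hr
  have hr' := mem_rootsFrom.1 hr
  have hz : t r = 0 := by
    by_contra hne'
    exact hne r hr'.2.1 hr'.2.2 (Units.ext ((mul_left_eq_self₀.1 h.symm).resolve_right hne'))
  rw [hz, elX_zero hcG F hr'.2.1]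

/-- the longest element -/
def W0 : List (Fin chevG2.rank) := [ia, ib, ia, ib, ia, ib]

theorem W0_spec : ∀ r : Fin chevG2.nroots, sigs chevG2 G2.tabs W0 r.val = 11 - r.val ∧
    sigs chevG2 G2.tabs W0.reverse r.val = 11 - r.val ∧
    (lv r.val < 0 → 0 < lv (11 - r.val)) ∧ (0 < lv r.val → lv (11 - r.val) < 0) := by
  unfold lv
  decide +kernel

theorem fixed_trivial_neg {χ : Fin chevG2.rank → Fˣ}
    (hne : ∀ r, r < chevG2.nroots → lv r ≠ 0 → chi χ (rv chevG2 G2.tabs r) ≠ 1) {g : GL chevG2.Idx F}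
    (hg : g ∈ Um F) (hcom : torus chevG2 G2.tabs F χ * g = g * torus chevG2 G2.tabs F χ) : g = 1 := by
  set n := nProd chevG2 F W0
  have hn : n * g * n⁻¹ ∈ Up F := by
    clear hcom
    induction hg using Subgroup.closure_induction with
    | mem x hx =>
      obtain ⟨r, t, hr, hP, rfl⟩ := hx
      obtain ⟨c, -, hc⟩ := nProd_conj_elX hcG (F := F) W0 hr
      rw [hc]
      obtain ⟨h1, -, h2, -⟩ := W0_spec ⟨r, hr⟩
      exact elX_mem_uGen (sigs_lt hcG W0 hr) (P := Upos) (show 0 < lv _ by rw [h1]; exact h2 hP) _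
    | one => simp
    | mul a b _ _ ha hb =>
      rw [show n * (a * b) * n⁻¹ = n * a * n⁻¹ * (n * b * n⁻¹) by group]; exact mul_mem ha hb
    | inv a _ ha => rw [show n * a⁻¹ * n⁻¹ = (n * a * n⁻¹)⁻¹ by group]; exact inv_mem ha
  have h := fixed_trivial closedPos_upos (χ := reflChars W0 χ) (fun r hr hP => ?_) hn (by
    rw [← nProd_conj_torus hcG W0 χ,
      show n * torus chevG2 G2.tabs F χ * n⁻¹ * (n * g * n⁻¹) = n * (torus chevG2 G2.tabs F χ * g) * n⁻¹ by group,
      hcom]
    simp only [n]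
    group)
  · rw [mul_inv_eq_one] at h
    exact (mul_eq_left₀' h)
  · obtain ⟨-, h1, -, h2⟩ := W0_spec ⟨r, hr⟩
    rw [ChevCent.chi_reflChars hcG, ← rv_sigs hcG _ hr, h1]
    exact hne _ (show 11 - r < 12 by omega) (h2 hP).ne
where
  mul_eq_left₀' {n g : GL chevG2.Idx F} (h : n * g = n) : g = 1 := mul_left_cancel (h.trans (mul_one n).symm)

theorem root_vals : ∀ r : Fin chevG2.nroots, lv r.val ≠ 0 →
    (rv chevG2 G2.tabs r.val ia, rv chevG2 G2.tabs r.val ib) ∈
      ([(0, 1), (1, 1), (2, 1), (3, 1), (3, 2), (0, -1), (-1, -1), (-2, -1), (-3, -1), (-3, -2)] : List (ℤ × ℤ)) := by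
  unfold lv
  decide +kernel

/-- elliptic matrices are diagonal over the quadratic extension -/
theorem elliptic_diag [Fintype F] {t d : F} (ht : t ≠ 0) (hirr : ∀ r : F, r ^ 2 - t * r + d ≠ 0)
    {M : GL (Fin 2) F} (hM : Cls t d (M : Matrix (Fin 2) (Fin 2) F)) :
    ∃ (E : Type) (_ : Field E) (_ : Fintype E) (ι : F →+* E) (σ : E →+* E) (Q : GL (Fin 2) E) (lu mu : Eˣ),
      Fintype.card E = Fintype.card F ^ 2 ∧ σ lu = mu ∧ σ mu = lu ∧ (mu : E) ≠ lu ∧
      (lu : E) * mu = ι d ∧ Q * GeneralLinearGroup.map ι M = diag2 lu mu * Q := by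
  classical
  obtain ⟨E, iE, iF, ι, σ, hfix, hσ, hE⟩ := ChevCent.exists_extension F (d := 2) two_pos
  have hne : t ^ 2 - 4 * d ≠ 0 := by
    intro e
    by_cases h2 : (2 : F) = 0
    · exact ht (eq_zero_of_pow_eq_zero (show t ^ 2 = 0 by linear_combination e + 2 * d * h2))
    · refine hirr (t / 2) ?_
      field_simp
      linear_combination -e
  rcases quadratic_roots ι σ hfix hσ hE hne with ⟨l, m, -, hs, hp⟩ | ⟨l, hl, hs, hp⟩
  · exact absurd (show l ^ 2 - t * l + d = 0 by rw [← hs, ← hp]; ring) (hirr l)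
  have hσσ : σ (σ l) = l := by
    rw [hσ, hσ, ← pow_mul, ← sq, ← hE, FiniteField.pow_card]
  have hl0 : l ≠ 0 := fun e => hl (by rw [e, map_zero])
  have hm0 : σ l ≠ 0 := fun e => hl0 (σ.injective (by rw [e, map_zero]))
  obtain ⟨P, hP⟩ := diag_of_roots ((GeneralLinearGroup.map ι M : GL (Fin 2) E) : Matrix (Fin 2) (Fin 2) E)
    (l := l) (m := σ l)
    (by rw [hs, ← hM.1, trace_fin_two, map_add]; rfl)
    (by rw [hp, ← hM.2, det_fin_two, map_sub, map_mul, map_mul]; rfl)
    (Ne.symm hl)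
  exact ⟨E, iE, iF, ι, σ, SpecialLinearGroup.toGL P, Units.mk0 l hl0, Units.mk0 (σ l) hm0, hE, rfl, hσσ, hl, hp,
    Units.ext (by rw [Units.val_mul, Units.val_mul, coe_diag2]; exact hP)⟩

set_option maxHeartbeats 2000000 in
/-- elliptic elements of determinant other than one centralise no radical element -/
theorem regular [Fintype F] {t d : F} (ht : t ≠ 0) (hd1 : d ≠ 1) (hirr : ∀ r : F, r ^ 2 - t * r + d ≠ 0)
    {M : GL (Fin 2) F} (hM : Cls t d (M : Matrix (Fin 2) (Fin 2) F)) {g : GL chevG2.Idx F}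
    (hg : g ∈ Up F ∨ g ∈ Um F) (hcom : lev M * g = g * lev M) : g = 1 := by
  classical
  obtain ⟨E, iE, iF, ι, σ, Q, lu, mu, -, hlm, hml, hl, hp, hQ⟩ := elliptic_diag ht hirr hM
  obtain ⟨l, hlu⟩ : ∃ l : E, l = lu := ⟨_, rfl⟩
  rw [← hlu] at hlm hl hp hml
  rw [← hlm] at hp hl
  have hσσ : σ (σ l) = l := by rw [hlm, hml]
  have hl0 : l ≠ 0 := hlu ▸ lu.ne_zero
  have hm0 : σ l ≠ 0 := hlm ▸ mu.ne_zero
  have hcom' : lev (diag2 lu mu) * (lev Q * glMap chevG2 ι g * (lev Q)⁻¹) =
      lev Q * glMap chevG2 ι g * (lev Q)⁻¹ * lev (diag2 lu mu) := by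
    rw [show diag2 lu mu = Q * GeneralLinearGroup.map ι M * Q⁻¹ by rw [hQ, mul_inv_cancel_right], map_mul, map_mul,
      map_inv, ← glMap_lev]
    have h := congrArg (glMap chevG2 ι) hcom
    rw [map_mul, map_mul] at h
    calc lev Q * glMap chevG2 ι (lev M) * (lev Q)⁻¹ * (lev Q * glMap chevG2 ι g * (lev Q)⁻¹)
        = lev Q * (glMap chevG2 ι (lev M) * glMap chevG2 ι g) * (lev Q)⁻¹ := by group
      _ = _ := by rw [h]; group
  have hd : l * σ l ≠ 1 := fun e => hd1 (ι.injective (by rw [← hp, e, map_one]))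
  have h1 : l ≠ 1 := fun e => hl (by rw [e, map_one])
  have h2 : σ l ≠ 1 := fun e => h1 (σ.injective (by rw [e, map_one]))
  have h3 : σ l ^ 2 ≠ l := fun e => by
    have e2 : l ^ 2 = σ l := by have := congrArg σ e; rwa [map_pow, hσσ] at this
    have e4 : l * (l ^ 3 - 1) = 0 := by linear_combination e + (l ^ 2 + σ l) * e2
    have := (mul_eq_zero.1 e4).resolve_left hl0
    exact hd (by linear_combination this - l * e2)
  have h4 : l ^ 2 ≠ σ l := fun e => h3 (by have := congrArg σ e; rwa [map_pow, hσσ] at this)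
  have hchi : ∀ r, r < chevG2.nroots → lv r ≠ 0 → chi (chr (lu / mu) (mu ^ 2 / lu)) (rv chevG2 G2.tabs r) ≠ 1 := by
    intro r hr hne' e
    have hv := root_vals ⟨r, hr⟩ hne'
    rw [chi_rank, chr_ia, chr_ib] at e
    have e' := congrArg (fun u : Eˣ => (u : E)) e
    simp only [List.mem_cons, List.not_mem_nil, or_false, Prod.mk.injEq] at hv
    rcases hv with hv | hv | hv | hv | hv | hv | hv | hv | hv | hv <;>
      (rw [hv.1, hv.2] at e'
       simp [← hlu, ← hlm, _root_.zpow_neg, zpow_ofNat, div_eq_mul_inv, mul_pow, inv_pow] at e'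
       field_simp at e'
       first
        | exact h1 (by linear_combination e') | exact h1 (by linear_combination -e')
        | exact h2 (by linear_combination e') | exact h2 (by linear_combination -e')
        | exact hd (by linear_combination e') | exact hd (by linear_combination -e')
        | exact h3 (by linear_combination e') | exact h3 (by linear_combination -e')
        | exact h4 (by linear_combination e') | exact h4 (by linear_combination -e'))
  have hmap : ∀ (Pr : ℕ → Prop) {x : GL chevG2.Idx F}, x ∈ uGen chevG2 F Pr →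
      glMap chevG2 ι x ∈ uGen chevG2 E Pr := by
    intro Pr x hx
    induction hx using Subgroup.closure_induction with
    | mem y hy =>
      obtain ⟨r, s, hr, hP', rfl⟩ := hy
      rw [ChevField.glMap_elX hcG ι hr]
      exact elX_mem_uGen hr hP' _
    | one => rw [map_one]; exact one_mem _
    | mul a b _ _ ha hb => rw [map_mul]; exact mul_mem ha hb
    | inv a _ ha => rw [map_inv]; exact inv_mem ha
  have key : lev Q * glMap chevG2 ι g * (lev Q)⁻¹ = 1 := by
    rw [lev_diag, tor] at hcom'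
    rcases hg with hg | hg
    · exact fixed_trivial closedPos_upos (fun r hr hP' => hchi r hr (ne_of_gt hP')) (lev_conj_up Q (hmap _ hg)) hcom'
    · exact fixed_trivial_neg hchi (lev_conj_um Q (hmap _ hg)) hcom'
  refine ChevField.glMap_injective ι ?_
  rw [map_one]
  exact conj_eq_one_iff.1 key

end CfsgLib.G2Square
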